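import Cfsg.Agent.KM.Ht.Defs
import Cfsg.Agent.TO.X11.Fr
import Cfsg.Agent.DL.CF.Uni

/-!
# KM, the height inequality: the boxes `BoxS` and `BoxZ` (helper4)
-/

set_option autoImplicit false
set_option linter.unusedSectionVars false

namespace Cfsg.Agent.KM.Ht

open Cfsg Cfsg.Agent.DL Cfsg.Agent.Nodes.Reps Cfsg.Agent.Nodes.BNOf Cfsg.Agent.Tits.Roots Matrix
  Cfsg.Agent.ChevalleyStructure.CoxeterGeom

/-- **large primes** -/
theorem boxS : BoxS := by
  intro p _ k _ _ Y _ N _ _ ρ F G _ X r hr hp hW R hR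
  have := Fact.mk hr
  obtain ⟨y, hy, -, -, h⟩ := TO.X11.toral (D := X) hp (Nat.not_dvd_of_pos_of_lt Nat.card_pos hW) hR
    ((GF F G).subtype.comp R.subtype) fun u => (u : GF F G).2
  have h1 : ∀ u : GF F G, u ∈ R → y⁻¹ * (u : Y) * y ∈ X.T := fun u hu => h ⟨u, hu⟩
  refine ⟨⟨⟨fun a b => Subtype.ext (Subtype.ext ?_)⟩⟩, ?_⟩
  · have h2 := X.T_comm (h1 _ a.2) (h1 _ b.2)
    calc ((a : GF F G) : Y) * (b : GF F G) = y * (y⁻¹ * (a : GF F G) * y * (y⁻¹ * (b : GF F G) * y)) * y⁻¹ := by group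
      _ = ((b : GF F G) : Y) * (a : GF F G) := by rw [h2]; group
  have key : ∀ g : Subgroup.normalizer (R : Set (GF F G)), ∃ m ∈ X.NN, ∀ u : R,
      m * (y⁻¹ * ((u : GF F G) : Y) * y) = y⁻¹ * (((g : GF F G) * u * (g : GF F G)⁻¹ : GF F G) : Y) * y * m := fun g => by
    obtain ⟨-, -, m, hm, e, -⟩ := X.exists_conj_form (s := fun u : R => y⁻¹ * ((u : GF F G) : Y) * y)
      (t := fun u : R => y⁻¹ * (((g : GF F G) * u * (g : GF F G)⁻¹ : GF F G) : Y) * y) (fun u => h1 _ u.2)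
      (fun u => h1 _ ((Subgroup.mem_normalizer_iff.1 g.2 _).1 u.2))
      (mul_mem (mul_mem (inv_mem hy) (g : GF F G).2.1) hy) fun u => by
        simp only [Subgroup.coe_mul, Subgroup.coe_inv]
        group
    exact ⟨m, hm, e⟩
  choose m hm e using key
  refine lt_of_le_of_lt (Nat.card_le_card_of_injective (fun q => X.pr (m q.out)) fun q q' h2 => ?_) hW
  rw [← q.out_eq, ← q'.out_eq, QuotientGroup.eq, Subgroup.mem_subgroupOf, Subgroup.mem_centralizer_iff]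
  intro u hu
  have h3 : X.pr (m q.out) = X.pr (m q'.out) := h2
  have h4 := X.T_comm ((X.rp_pr (hm q.out)).unique (h3 ▸ X.rp_pr (hm q'.out))) (h1 u hu)
  have h5 := e q.out ⟨u, hu⟩
  have h6 := e q'.out ⟨u, hu⟩
  simp only [Subgroup.coe_mul, Subgroup.coe_inv] at h5 h6
  refine Subtype.ext ?_
  simp only [Subgroup.coe_mul, Subgroup.coe_inv]
  set a : Y := q.out.1.1
  set b : Y := q'.out.1.1
  have h7 : y⁻¹ * (a * u * a⁻¹) * y = y⁻¹ * (b * u * b⁻¹) * y :=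
    calc y⁻¹ * (a * u * a⁻¹) * y = m q.out * (y⁻¹ * u * y) * (m q.out)⁻¹ := by rw [h5]; group
      _ = m q.out * (y⁻¹ * u * y * ((m q.out)⁻¹ * m q'.out)) * (m q'.out)⁻¹ := by group
      _ = m q'.out * (y⁻¹ * u * y) * (m q'.out)⁻¹ := by rw [← h4]; group
      _ = _ := by rw [h6]; group
  have h8 : a * u * a⁻¹ = b * u * b⁻¹ := mul_left_cancel (mul_right_cancel h7)
  calc (u : Y) * (a⁻¹ * b) = a⁻¹ * (a * u * a⁻¹) * b := by group
    _ = a⁻¹ * b * u := by rw [h8]; group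

variable {p : ℕ} [Fact p.Prime] {k : Type} [Field k] [CharP k p] {Y : Type} [Group Y] {N : Type} [Fintype N]
  [DecidableEq N] {ρ : Y →* GL N k} {F : MulAut Y} {G : Subgroup Y} [IsAlgClosed k] (X : Datum p ρ F G)

theorem Sz_le_Z0 (A : Set Y) : X.Sz A ⊆ X.Sz (Z0 X A) := fun b hb => ⟨hb.1, fun z hz => by
  induction hz using Subgroup.closure_induction with
  | mem z hz =>
    obtain ⟨v, a, h, rfl⟩ := hz
    rw [X.χ_τ, chr_coch, show ∑ j, X.wt b j * v j = 0 from h b hb, zpow_zero, Units.val_one]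
  | one => exact X.χ_one b
  | mul x y hx hy h1 h2 => rw [X.χ_mul b (Z0_le_T X A hx) (Z0_le_T X A hy), h1, h2, mul_one]
  | inv x hx h1 => rw [X.χ_inv b (Z0_le_T X A hx), h1, inv_one]⟩

theorem cen_comm_Z0 (A : Set Y) {g z : Y} (hg : g ∈ X.cen A) (hz : z ∈ Z0 X A) : g * z = z * g :=
  (X.cen_le_centralizer (Z := Z0 X A) (Z0_le_T X A)
    ((sup_le_sup_left (RGD.Sup_mono (Sz_le_Z0 X A)) _ : X.cen A ≤ X.cen (Z0 X A)) hg) z hz).symm

theorem conj_mem_Z0 {A : Subgroup Y} (hA : A ≤ X.T) {g z : Y} (hg : g ∈ G) (hn : g ∈ Subgroup.normalizer (A : Set Y))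
    (hz : z ∈ Z0 X A) : g * z * g⁻¹ ∈ Z0 X A := by
  have h0 : ∀ a : A, g * a * g⁻¹ ∈ A := fun a => (Subgroup.mem_normalizer_iff.1 hn _).1 a.2
  obtain ⟨c, hc, m, ⟨w, hm⟩, e, rfl⟩ := X.exists_conj_form (s := fun a : A => (a : Y)) (t := fun a : A => g * a * g⁻¹)
    (fun a => hA a.2) (fun a => hA (h0 a)) hg fun a => by group
  have h1 : Z0 X A ≤ (Z0 X A).comap (MulAut.conj m).toMonoidHom := (Subgroup.closure_le _).2 fun _ ⟨v, a, h, e1⟩ => by
    show m * _ * m⁻¹ ∈ Z0 X A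
    rw [e1, X.conj_τ hm, mon_coch]
    refine mem_Z0 (fun b hb => ?_) a
    rw [dotProduct_mulVec, ← X.wt_act']
    refine h _ ⟨hb.1.act _, fun x hx => ?_⟩
    rw [← X.χ_rp hm _ (hA hx), ← CF.act_mul, mul_inv_cancel, CF.act_one, e ⟨x, hx⟩, mul_inv_cancel_right]
    exact hb.2 _ (h0 ⟨x, hx⟩)
  have h2 : m * z * m⁻¹ ∈ Z0 X A := h1 hz
  have h3 : c ∈ X.cen A := by
    refine X.cen_anti (fun x hx => ?_) (X.S_le_cen _ hc)
    refine ⟨⟨(c * m)⁻¹ * x * (c * m), (Subgroup.mem_normalizer_iff.1 hn _).2 ?_⟩, by group⟩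
    rw [show c * m * ((c * m)⁻¹ * x * (c * m)) * (c * m)⁻¹ = x by group]
    exact hx
  rw [show c * m * z * (c * m)⁻¹ = c * (m * z * m⁻¹) * c⁻¹ by group, cen_comm_Z0 X A h3 h2, mul_inv_cancel_right]
  exact h2

/-- a generic combination of finitely many invariant linear forms -/
theorem exists_generic {ι : Type*} (s : Finset ι) (f : ι → (X.I → ℤ) →+ ℤ) (w : X.W)
    (hf : ∀ i ∈ s, ∀ a, f i (X.act w a) = f i a) :
    ∃ l : (X.I → ℤ) →+ ℤ, (∀ a, l (X.act w a) = l a) ∧ ∀ a, X.Rt a → l a = 0 → ∀ i ∈ s, f i a = 0 := by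
  classical
  induction s using Finset.induction_on with
  | empty => exact ⟨0, fun _ => rfl, fun _ _ _ _ h => absurd h (Finset.notMem_empty _)⟩
  | insert j s hj ih =>
    obtain ⟨l, h1, h2⟩ := ih fun i hi => hf i (Finset.mem_insert_of_mem hi)
    let M : ℤ := 1 + ∑ a ∈ X.finite_roots.toFinset, |l a|
    have hM : ∀ a, X.Rt a → |l a| < M := fun a ha => by
      have := Finset.single_le_sum (f := fun a => |l a|) (fun _ _ => abs_nonneg _) (X.finite_roots.mem_toFinset.2 ha)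
      omega
    refine ⟨M • f j + l, fun a => ?_, fun a ha h0 => ?_⟩
    · show M * f j (X.act w a) + l (X.act w a) = M * f j a + l a
      rw [h1, hf j (Finset.mem_insert_self _ _)]
    · have h3 : M * f j a + l a = 0 := h0
      have h4 := abs_lt.1 (hM a ha)
      have h5 : f j a = 0 := by
        rcases lt_trichotomy (f j a) 0 with h | h | h
        · nlinarith
        · exact h
        · nlinarith
      rw [h5, mul_zero, zero_add] at h3
      exact Finset.forall_mem_insert _ _ _ |>.2 ⟨h5, h2 a ha h3⟩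

/-- an `l'`-element of the stabiliser of an `l`-subgroup of `T` lies in the reflection subgroup -/
theorem mem_of_coprime {A : Subgroup Y} (hA : A ≤ X.T) [Finite A] {l : ℕ} (hP : IsPGroup l A) {H : Subgroup X.W}
    (hH : ∀ a ∈ X.Sz A, X.rf a ∈ H) {w : X.W} (hw : ∀ x ∈ A, ∀ a, X.χ (X.act w a) x = X.χ a x) {n : ℕ} (hn : n.Coprime l)
    (hj : w ^ n = 1) : w ∈ H := by
  have := Fintype.ofFinite A
  choose ζ f hζ hf using fun x : A => CF.exists_log X (hA x.2)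
  have h1 : ∀ x ∈ A, ∀ i a, X.χ (X.act (w ^ i) a) x = X.χ a x := by
    intro x hx i
    induction i with
    | zero => intro a; rw [pow_zero, CF.act_one]
    | succ i ih => intro a; rw [pow_succ, CF.act_mul, ih, hw x hx]
  let f' : A → (X.I → ℤ) →+ ℤ := fun x => ∑ i ∈ Finset.range n, (f x).comp (rep X.cs X.h (w ^ i)).toAddMonoidHom
  have hf' : ∀ x a, f' x a = ∑ i ∈ Finset.range n, f x (X.act (w ^ i) a) := fun x a =>
    AddMonoidHom.finsetSum_apply _ _ _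
  obtain ⟨g, h2, h3⟩ := exists_generic X Finset.univ f' w fun x _ a => by
    rw [hf', hf']
    have h2 := Finset.sum_range_succ (fun i => f x (X.act (w ^ i) a)) n
    have h3 := Finset.sum_range_succ' (fun i => f x (X.act (w ^ i) a)) n
    simp only [hj, pow_zero] at h2 h3
    simp only [← CF.act_mul, ← pow_succ]
    omega
  refine CF.mem_of_fix X g (fun a ha h0 => hH a ⟨ha, fun x hx => ?_⟩) h2
  have h4 : ∀ n, ζ ⟨x, hx⟩ ^ (∑ i ∈ Finset.range n, f ⟨x, hx⟩ (X.act (w ^ i) a)) = X.χ a x ^ n := by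
    intro n
    induction n with
    | zero => simp
    | succ n ih => rw [Finset.sum_range_succ, zpow_add₀ (hζ _), ih, ← hf, h1 x hx, pow_succ]
  have h5 : X.χ a x ^ n = 1 := by rw [← h4, ← hf', h3 a ha h0 _ (Finset.mem_univ _), zpow_zero]
  obtain ⟨j, h6⟩ := hP ⟨x, hx⟩
  have h7 : ∀ i : ℕ, X.χ a (x ^ i) = X.χ a x ^ i := by
    intro i
    induction i with
    | zero => rw [pow_zero, pow_zero, X.χ_one]
    | succ i ih => rw [pow_succ, pow_succ, X.χ_mul a (hA (pow_mem hx i)) (hA hx), ih]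
  have h8 : X.χ a x ^ l ^ j = 1 := by rw [← h7, show x ^ l ^ j = 1 from congrArg Subtype.val h6, X.χ_one]
  have h9 := pow_gcd_eq_one.2 ⟨h5, h8⟩
  rwa [hn.pow_right j, pow_one] at h9

theorem mem_cen_of_coprime {A : Subgroup Y} (hA : A ≤ X.T) [Finite A] {l : ℕ} (hl : l.Prime) (hP : IsPGroup l A) {g : Y}
    (hg : g ∈ G) (hc : g ∈ Subgroup.centralizer (A : Set Y)) (ho : ¬ l ∣ orderOf g) : g ∈ X.cen A := by
  obtain ⟨c, hc1, m, ⟨w, hm⟩, hmc, rfl⟩ := X.exists_cen_form hA hg hc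
  have h1 : ∀ i : ℕ, (c * m) ^ i * (m ^ i)⁻¹ ∈ X.cen A := by
    intro i
    induction i with
    | zero => simp
    | succ i ih =>
      have h6 := X.conj_mem_cen hA (pow_mem hg i) (pow_mem hc i) (X.S_le_cen A hc1)
      convert mul_mem h6 ih using 1
      rw [pow_succ, pow_succ]
      group
  obtain ⟨j, M, hM, hW⟩ := Nat.exists_eq_pow_mul_and_not_dvd (Nat.card_pos (α := X.W)).ne' l hl.ne_one
  have h3 : X.Rp (w ^ l ^ j) (m ^ l ^ j) := KFacts.RgdDiag.rp_pow hm _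
  let H : Subgroup X.W :=
    { carrier := {w | ∃ x ∈ X.cen A, X.Rp w x}
      one_mem' := ⟨1, one_mem _, rp_one⟩
      mul_mem' := fun ⟨x, hx, h⟩ ⟨y, hy, h'⟩ => ⟨x * y, mul_mem hx hy, h.mul h'⟩
      inv_mem' := fun ⟨x, hx, h⟩ => ⟨x⁻¹, inv_mem hx, h.inv⟩ }
  obtain ⟨x, hx, h5⟩ : w ^ l ^ j ∈ H := by
    refine mem_of_coprime X hA hP (fun c hc => ?_) (fun x hx a => X.χ_act_of_comm hA h3 (pow_mem hmc _) a hx)
      ((hl.coprime_iff_not_dvd.2 hM).symm) (by rw [← pow_mul, ← hW, pow_card_eq_one'])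
    obtain ⟨x, hx, h⟩ := X.exists_rp_rf hc.1
    exact ⟨x, (sup_le_sup_left (sup_le (RGD.le_Sup (S := X.Sz A) hc) (RGD.le_Sup (S := X.Sz A) (X.Sz_neg hc))) _ :
      _ ≤ X.cen A) hx, h⟩
  have h6 : m ^ l ^ j ∈ X.cen A := by
    have := mul_mem hx (X.T_le_cen A (h5.unique h3))
    rwa [mul_inv_cancel_left] at this
  have h7 := mul_mem (h1 (l ^ j)) h6
  rw [inv_mul_cancel_right] at h7
  exact Subgroup.zpowers_le.2 h7 (mem_zpowers_pow_iff.2 ((hl.coprime_iff_not_dvd.2 ho).pow_left j))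

/-- **the normaliser and the centraliser of `Z0`** -/
theorem boxZ : BoxZ := fun X _ hA => ⟨fun _ hg hn _ hz => conj_mem_Z0 X hA hg hn hz, fun _ hg _ hz => cen_comm_Z0 X _ hg hz,
  fun _ hl _ _ hP _ hg hc ho => mem_cen_of_coprime X hA hl hP hg hc ho⟩

end Cfsg.Agent.KM.Ht
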