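import Cfsg.Agent.KM.Ht.Defs

/-!
# KM, the height inequality: the order polynomial of `Z0` (helper53)
-/

set_option autoImplicit false
set_option linter.unusedSectionVars false

namespace Cfsg.Agent.KM.Ht

open Cfsg Cfsg.Agent.DL Polynomial Matrix

namespace OP

/-- a saturated sublattice is a direct summand -/
theorem exists_JK {R : Type} [Fintype R] [DecidableEq R] (Λ : Submodule ℤ (R → ℤ))
    (h : ∀ n : ℤ, n ≠ 0 → ∀ v, n • v ∈ Λ → v ∈ Λ) :
    ∃ (s : ℕ) (J : Matrix R (Fin s) ℤ) (K : Matrix (Fin s) R ℤ), K * J = 1 ∧ ∀ v, v ∈ Λ ↔ ∃ u, J *ᵥ u = v := by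
  have : Module.IsTorsionFree ℤ ((R → ℤ) ⧸ Λ) := .of_smul_eq_zero fun n x hx => by
    obtain ⟨v, rfl⟩ := Λ.mkQ_surjective x
    rw [or_iff_not_imp_left]
    exact fun hn => (Submodule.Quotient.mk_eq_zero Λ).2 (h n hn v ((Submodule.Quotient.mk_eq_zero Λ).1 hx))
  obtain ⟨σ, hσ⟩ := Module.projective_lifting_property Λ.mkQ LinearMap.id Λ.mkQ_surjective
  let π : (R → ℤ) →ₗ[ℤ] Λ := (LinearMap.id - σ ∘ₗ Λ.mkQ).codRestrict Λ fun v => (Submodule.Quotient.mk_eq_zero Λ).1 (by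
    have h1 : Λ.mkQ (σ (Λ.mkQ v)) = Λ.mkQ v := LinearMap.congr_fun hσ _
    show Λ.mkQ (v - σ (Λ.mkQ v)) = 0
    rw [map_sub, h1, sub_self])
  have hπ : ∀ v : Λ, π v = v := fun v => Subtype.ext (by
    show (v : R → ℤ) - σ (Λ.mkQ v) = v
    rw [Submodule.mkQ_apply, (Submodule.Quotient.mk_eq_zero Λ).2 v.2, map_zero, sub_zero])
  let b := (Module.finBasis ℤ Λ).equivFun
  refine ⟨_, LinearMap.toMatrix' (Λ.subtype ∘ₗ b.symm.toLinearMap), LinearMap.toMatrix' (b.toLinearMap ∘ₗ π), ?_,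
    fun v => ⟨fun hv => ⟨b ⟨v, hv⟩, ?_⟩, ?_⟩⟩
  · rw [← LinearMap.toMatrix'_comp, ← LinearMap.toMatrix'_id]
    refine congrArg _ (LinearMap.ext fun u => ?_)
    show b (π (b.symm u)) = u
    rw [hπ, b.apply_symm_apply]
  · rw [LinearMap.toMatrix'_mulVec]
    show ((b.symm (b ⟨v, hv⟩) : Λ) : R → ℤ) = v
    rw [b.symm_apply_apply]
  · rintro ⟨u, rfl⟩
    rw [LinearMap.toMatrix'_mulVec]
    exact (b.symm u).2

variable {R S T : Type} [Fintype S] [Fintype T] {k : Type} [Field k]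

/-- the monomial map of a rectangular matrix -/
def rm (J : Matrix R S ℤ) : (S → kˣ) →* (R → kˣ) where
  toFun c i := chr (J i) c
  map_one' := by funext i; simp
  map_mul' a b := by funext i; simp

theorem rm_coch (J : Matrix R S ℤ) (m : S → ℤ) (a : kˣ) : rm J (coch m a) = coch (J *ᵥ m) a :=
  funext fun i => chr_coch (J i) m a

theorem rm_mul [DecidableEq T] (J : Matrix R S ℤ) (K : Matrix S T ℤ) (c : T → kˣ) : rm (J * K) c = rm J (rm K c) := by
  rw [← prod_coch_single c]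
  simp only [map_prod, rm_coch, mulVec_mulVec]

theorem det_cast {p : ℕ} [CharP k p] [DecidableEq S] {A : Matrix S S ℤ} {d e : ℕ} (he : 0 < e) (h : A ^ d = ((p : ℤ) ^ e) • 1) :
    ((A - 1).det : k) ≠ 0 := by
  intro h0
  have h1 := congrArg Matrix.det (Commute.mul_geom_sum₂ (Commute.one_right A) d)
  have h2 : ((p : ℤ) ^ e) • (1 : Matrix S S ℤ) - 1 = ((p : ℤ) ^ e - 1) • (1 : Matrix S S ℤ) := by
    rw [sub_smul, one_smul]
  rw [Matrix.det_mul, h, one_pow, h2, Matrix.det_smul, Matrix.det_one, mul_one] at h1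
  have h3 := congrArg (Int.cast : ℤ → k) h1
  rw [Int.cast_mul, h0, zero_mul] at h3
  push_cast at h3
  rw [CharP.cast_eq_zero, zero_pow he.ne', zero_sub] at h3
  exact pow_ne_zero _ (neg_ne_zero.2 one_ne_zero) h3.symm

theorem ev_det [DecidableEq S] (A : Matrix S S ℤ) (t : ℤ) :
    (((X : ℤ[X]) • A.map C - 1).det).eval t = (t • A - 1).det := by
  rw [← coe_evalRingHom, RingHom.map_det, map_sub, map_one]
  congr 2
  ext i j
  simp

end OP

open OP

/-- **the order polynomial of `Z0`** -/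
theorem boxP : BoxP := by
  intro p _ k _ _ Y _ N _ _ ρ F G _ X A hA hF
  let Λ : Submodule ℤ (X.R → ℤ) :=
    { carrier := {v | ∀ b ∈ X.Sz A, X.wt b ⬝ᵥ v = 0}
      add_mem' := fun hu hv b hb => by rw [dotProduct_add, hu b hb, hv b hb, add_zero]
      zero_mem' := fun b _ => dotProduct_zero _
      smul_mem' := fun n v hv b hb => by rw [dotProduct_smul, hv b hb, smul_zero] }
  obtain ⟨s, J, K, hK, hJ⟩ := exists_JK Λ fun n hn v hv b hb => by
    have h1 := hv b hb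
    rw [dotProduct_smul, smul_eq_mul] at h1
    exact (mul_eq_zero.1 h1).resolve_left hn
  have hM : ∀ v ∈ Λ, X.Mx *ᵥ v ∈ Λ := fun v hv b hb => by
    obtain ⟨a, ha, rfl⟩ := (X.g_bijOn (A := X.Sz A) X.Sz_root fun a ha =>
      X.g_mem_Sz hA (fun z hz => (hF z hz).symm ▸ hz) ha).surjOn hb
    rw [dotProduct_mulVec, X.wt_g ha.1, smul_dotProduct, hv a ha, smul_zero]
  obtain ⟨B, hB⟩ : ∃ B : Matrix (Fin s) (Fin s) ℤ, X.Mx * J = J * B := ⟨K * (X.Mx * J), by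
    refine Matrix.toLin'.injective (LinearMap.ext fun u => ?_)
    obtain ⟨u', hu⟩ := (hJ _).1 (hM _ ((hJ _).2 ⟨u, rfl⟩))
    simp only [toLin'_apply, ← mulVec_mulVec]
    rw [← hu, mulVec_mulVec u' K J, hK, one_mulVec]⟩
  have hBm : ∀ m, X.Mx ^ m * J = J * B ^ m := fun m => by
    induction m with
    | zero => rw [pow_zero, pow_zero, Matrix.one_mul, Matrix.mul_one]
    | succ m ih => rw [pow_succ, Matrix.mul_assoc, hB, ← Matrix.mul_assoc, ih, Matrix.mul_assoc, ← pow_succ]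
  have hBd : ∀ d e : ℕ, X.Mx ^ d = ((p : ℤ) ^ e) • (1 : Matrix X.R X.R ℤ) → B ^ d = ((p : ℤ) ^ e) • 1 := fun d e h => by
    rw [← Matrix.one_mul (B ^ d), ← hK, Matrix.mul_assoc, ← hBm, h, Matrix.smul_mul, Matrix.one_mul, Matrix.mul_smul]
  let ι : (Fin s → kˣ) →* Y := X.τ.comp (rm J)
  have hι : Function.Injective ι := fun c c' h => by
    have h1 := congrArg (rm K) (X.τ_inj h)
    rwa [← rm_mul, ← rm_mul, hK, show rm 1 c = c from mon_one c, show rm 1 c' = c' from mon_one c'] at h1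
  have hZ : Z0 X A = ι.range := le_antisymm ((Subgroup.closure_le _).2 (by
    rintro _ ⟨v, a, hv, rfl⟩
    obtain ⟨u, rfl⟩ := (hJ v).1 hv
    exact ⟨coch u a, congrArg X.τ (rm_coch J u a)⟩)) (by
    rintro _ ⟨c, rfl⟩
    show c ∈ (Z0 X A).comap ι
    rw [← prod_coch_single c]
    refine Subgroup.prod_mem _ fun j _ => ?_
    show X.τ (rm J (coch _ _)) ∈ Z0 X A
    rw [rm_coch]
    exact mem_Z0 ((hJ _).2 ⟨_, rfl⟩) (c j))
  have hFι : ∀ m c, (F ^ m) (ι c) = ι (mon (B ^ m) c) := fun m c =>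
    (X.F_pow_τ m _).trans (congrArg X.τ ((rm_mul (X.Mx ^ m) J c).symm.trans (hBm m ▸ rm_mul J (B ^ m) c)))
  have hc : ∀ m, 0 < m → Nat.card ↥(GF (F ^ m) (Z0 X A)) = (B ^ m - 1).det.natAbs := fun m hm => by
    obtain ⟨d, e, H⟩ := X.exists_split'
    have h1 : GF (F ^ m) (Z0 X A) = (mon (B ^ m - 1) : (Fin s → kˣ) →* _).ker.map ι := by
      have h2 : ∀ c, (F ^ m) (ι c) = ι c ↔ mon (B ^ m - 1) c = 1 := fun c => by
        rw [hFι, hι.eq_iff, mon_sub, mon_one, mul_inv_eq_one]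
      rw [hZ]
      exact le_antisymm (by rintro _ ⟨⟨c, rfl⟩, h⟩; exact ⟨c, (h2 c).1 h, rfl⟩)
        (by rintro _ ⟨c, h, rfl⟩; exact ⟨⟨c, rfl⟩, (h2 c).2 h⟩)
    rw [h1, Subgroup.card_map_of_injective hι, card_ker_mon (det_cast (d := d) (Nat.mul_pos H.e_pos hm) (by
      rw [← pow_mul, mul_comm m d, pow_mul, hBd d e (X.Mx_pow H), _root_.smul_pow, one_pow, pow_mul]))]
  refine ⟨fun z hz => ?_, ((Polynomial.X : ℤ[X]) • B.map C - 1).det, ?_, ?_, fun d e j h => ?_⟩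
  · rw [hZ] at hz ⊢
    obtain ⟨c, rfl⟩ := hz
    exact ⟨_, (hFι 1 c).symm⟩
  · rw [coeff_zero_eq_eval_zero, ev_det, zero_smul, zero_sub]
    exact (isUnit_iff_isUnit_det _).1 isUnit_one.neg
  · have h1 := hc 1 one_pos
    rw [pow_one, pow_one] at h1
    rw [ev_det, one_smul, h1]
  · rw [ev_det, hc _ (by omega), pow_add, pow_one, pow_mul B, hBd d e h, _root_.smul_pow, one_pow, mul_smul_comm, mul_one,
      pow_mul]

end Cfsg.Agent.KM.Ht
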