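import Cfsg.Agent.KM.Ht.Defs
import Cfsg.Agent.H658.InertialBound
import Cfsg.Agent.H662.IndLocal
import Cfsg.Agent.H648.HeightForm
import Cfsg.Agent.Blocks.ExistsModular
import Cfsg.Agent.Blocks.RegularCount
import Cfsg.Agent.S0906
import Cfsg.Agent.S0908
import Cfsg.Agent.S0924
import Cfsg.Agent.S0973

/-!
# KM, a character which does not vanish on a coset (helper23)

`boxR : BoxR`.
-/

set_option autoImplicit false

namespace Cfsg.Agent.KM.Ht

open Cfsg

namespace R23

variable {G : Type} [Group G] [Finite G] {p : ℕ} [hp : Fact p.Prime]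

/-- a coset which is covered by the conjugates of `E` -/
theorem card_lt (hG : Small p G) {E S : Subgroup G} (hE : IsPGroup p E) (hS : IsPGroup p S) {x : G} {k : ℕ}
    (hx : x ^ p ^ k = 1) (hc : ∀ s ∈ S, x * s = s * x) (h : ∀ s ∈ S, ∃ g, g⁻¹ * (x * s) * g ∈ E) :
    Nat.card S < p * Nat.card E := by
  have h1 : IsPGroup p (Subgroup.zpowers x) := by
    rintro ⟨_, t, rfl⟩
    refine ⟨k, Subtype.ext ?_⟩
    show (x ^ t) ^ p ^ k = 1
    rw [← zpow_natCast, ← zpow_mul, mul_comm, zpow_mul, zpow_natCast, hx, one_zpow]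
  obtain ⟨R, hR⟩ := (h1.to_sup_of_normal_right' hS (Subgroup.zpowers_le.2 (Subgroup.mem_normalizer_fintype
    fun s hs => by rw [hc s hs, mul_inv_cancel_right]; exact hs))).exists_le_sylow
  obtain ⟨Q, hQ⟩ := hE.exists_le_sylow
  obtain ⟨c, hc'⟩ := MulAction.exists_smul_eq G Q R
  have h2 : ∀ e ∈ E, c * e * c⁻¹ ∈ R := fun e he =>
    hc' ▸ (Subgroup.smul_mem_pointwise_smul e (MulAut.conj c) (Q : Subgroup G) (hQ he) :)
  obtain ⟨hab, hw⟩ := hG R R.2
  have h3 : ∀ s : S, x * s ∈ R := fun s =>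
    hR (mul_mem (Subgroup.mem_sup_left (Subgroup.mem_zpowers x)) (Subgroup.mem_sup_right s.2))
  have h4 : ∀ s : S, ∃ n : Subgroup.normalizer ((R : Subgroup G) : Set G), c⁻¹ * ((n : G)⁻¹ * (x * s) * n) * c ∈ E := fun s => by
    obtain ⟨g, hg⟩ := h s s.2
    obtain ⟨n, h5, h6⟩ := R.conj_eq_normalizer_conj_of_mem (x * s) (g * c⁻¹) (h3 s) (by
      convert h2 _ hg using 1
      group)
    refine ⟨⟨n, h5⟩, ?_⟩
    rw [← h6]
    convert hg using 1
    group
  choose n hn using h4
  have h5 := Nat.card_le_card_of_injective (fun s : S => (((n s : _) : _ ⧸ (Subgroup.centralizer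
      ((R : Subgroup G) : Set G)).subgroupOf (Subgroup.normalizer ((R : Subgroup G) : Set G))), (⟨_, hn s⟩ : E)))
    fun s t e => by
      have h6 : ((n s : G)⁻¹ * n t) ∈ Subgroup.centralizer ((R : Subgroup G) : Set G) :=
        Subgroup.mem_subgroupOf.1 (QuotientGroup.eq.1 (congrArg Prod.fst e))
      have h7 : c⁻¹ * ((n s : G)⁻¹ * (x * s) * n s) * c = c⁻¹ * ((n t : G)⁻¹ * (x * t) * n t) * c :=
        congrArg (fun z => (z.2 : G)) e
      have h8 := h6 _ ((Subgroup.mem_normalizer_iff''.1 (n s).2 _).1 (h3 t))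
      refine Subtype.ext (mul_left_cancel (a := x) ?_)
      calc x * s = n s * ((n t : G)⁻¹ * (x * t) * n t) * (n s : G)⁻¹ := by
            rw [← mul_left_cancel (mul_right_cancel h7)]
            group
        _ = n s * (((n s : G)⁻¹ * n t)⁻¹ * ((n s : G)⁻¹ * (x * t) * n s * ((n s : G)⁻¹ * n t))) * (n s : G)⁻¹ := by group
        _ = x * t := by
            rw [h8]
            group
  rw [Nat.card_prod] at h5
  exact h5.trans_lt (Nat.mul_lt_mul_of_pos_right hw Nat.card_pos)

/-- abelian defect groups with a small automizer -/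
theorem hz {M : Ideal AlgInt} (hM : IsPModular p M) {B : Set (IrrCharacter G)} (hB : IsPBlock M B) {D : Subgroup G}
    (hD : IsDefectGroup p M B D) (hab : IsMulCommutative D)
    (hw : (Subgroup.centralizer (D : Set G)).relIndex (Subgroup.normalizer (D : Set G)) < p) {χ : IrrCharacter G}
    (hχ : χ ∈ B) : blockHeight p B (χ : G → ℂ) = 0 := by
  classical
  obtain ⟨b, -, hb⟩ := (S0973.result p M hM B hB D hD).1
  have hDp : IsPGroup p D := Blocks.Basic.isPGroup_of_isDefectGroup hD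
  have hzc : ∀ z : Subgroup.center D, ∀ w ∈ D, ((z : D) : G) * w = w * ((z : D) : G) := fun z w hw =>
    (congrArg Subtype.val (Subgroup.mem_center_iff.1 z.2 ⟨w, hw⟩)).symm
  choose f hf1 hf2 hf3 hf4 using fun z : Subgroup.center D => H658.exists_major hM hD (z : D).2 (hzc z) hb
  have := Fintype.ofFinite (Subgroup.center D)
  have h1 := H658.card_center_le hM hD f hf1 hf2 hf4 hχ
  have h2 : ∑ z : Subgroup.center D, H658.cn p ((z : D) : G) (f z) (χ : G → ℂ) ≤
      ((Subgroup.centralizer (D : Set G)).relIndex (Subgroup.normalizer (D : Set G)) : ℕ) := by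
    refine H658.sum_major_le hM (fun z : Subgroup.center D => ((z : D) : G)) (fun z => ?_) f (fun z => (hf1 z).2.1)
      (fun i => ?_) χ
    · rw [Subgroup.orderOf_coe]
      exact IsPGroup.iff_orderOf.1 hDp z
    · refine H658.card_orbit_le (z₀ := ((i : D) : G)) (fun h hh => (hh _ (i : D).2).symm) (fun j => ((j.1 : D) : G))
        (fun j j' hjj => Subtype.ext (Subtype.ext (Subtype.ext hjj))) ?_
      rintro ⟨j, x, ε, hε, hx, hεf⟩
      obtain ⟨t, ht, htN, -⟩ := H658.fuse hM rfl rfl rfl (i : D).2 (hzc i) (hf1 j) (hf3 j)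
        (H658.le_centralizer_of_mem_center (hzc j)) (hf1 i) (hf3 i) x hx hε hεf
      exact ⟨t, htN, ht⟩
  have h3 : Nat.card (Subgroup.center D) = p ^ blockDefect p B := by
    rw [← S0908.result p M hM B hB D hD, Subgroup.center_eq_top, Subgroup.card_top]
  have h4 : p ^ blockDefect p B < p ^ (blockDefect p B - blockHeight p B (χ : G → ℂ) + 1) := by
    have h5 : (p : ℝ) ^ blockDefect p B ≤ (p : ℝ) ^ (blockDefect p B - blockHeight p B (χ : G → ℂ)) *
        ((Subgroup.centralizer (D : Set G)).relIndex (Subgroup.normalizer (D : Set G)) : ℕ) := by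
      rw [h3, Nat.cast_pow] at h1
      exact h1.trans (mul_le_mul_of_nonneg_left h2 (by positivity))
    rw [pow_succ]
    exact lt_of_le_of_lt (by exact_mod_cast h5) (Nat.mul_lt_mul_of_pos_left hw (pow_pos hp.out.pos _))
  have h5 := (Nat.pow_lt_pow_iff_right hp.out.one_lt).1 h4
  have := Fintype.ofFinite G
  have h6 := H648.HeightForm.defect_add (p := p) B hχ
  have h7 := Nat.factorization_le_factorization_of_dvd_right (a := p) (S0914.degree_spec χ).2.2
    (Blocks.Basic.charDegree_pos χ.2).ne' Nat.card_pos.ne'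
  omega

end R23

open R23

/-- **A character which does not vanish on a coset.** -/
theorem boxR : BoxR := by
  intro H _ _ r hr hH χ S y hS hc h0
  have : Fact r.Prime := ⟨hr⟩
  obtain ⟨M, hM⟩ := Blocks.ExistsModular.exists_isPModular hr
  have := hM.2.1.isPrime
  have hB : IsPBlock M (blockOf M (χ : H → ℂ)) := ⟨χ, rfl⟩
  obtain ⟨g, hg⟩ := S0906.result r M hM _ hB
  obtain ⟨E, hE⟩ : ∃ E, IsDefectGroup r M (blockOf M (χ : H → ℂ)) E := ⟨_, g, hg, default, rfl⟩
  have hEp := Blocks.Basic.isPGroup_of_isDefectGroup hE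
  obtain ⟨x, z, h1, h2, ⟨a, ha⟩, ⟨b, hb⟩, ⟨k, h3⟩, h4⟩ := Blocks.RegularCount.exists_pPart (p := r) y
  have h5 : ∀ s ∈ S, Commute x s := fun s hs => ha ▸ Commute.zpow_left (hc s hs) a
  have h6 : ∀ s ∈ S, Commute z s := fun s hs => hb ▸ Commute.zpow_left (hc s hs) b
  have h7 : x ^ r ^ k = 1 := h3 ▸ pow_orderOf_eq_one x
  have h8 := card_lt hH hEp hS h7 h5 fun s hs => by
    by_contra h
    refine h0 s hs (S0924.result r M hM χ _ (x * s) ⟨z, ?_, h2.mul_left (h6 s hs).symm, ?_, h4⟩ fun D hD hx => h ?_)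
    · rw [← h1, mul_assoc, ← (h6 s hs).eq, mul_assoc]
    · obtain ⟨j, hj⟩ := hS ⟨s, hs⟩
      have h9 : (x * s) ^ r ^ (k + j) = 1 := by
        rw [(h5 s hs).mul_pow, pow_add, pow_mul, h7, one_pow, one_mul, mul_comm, pow_mul,
          show s ^ r ^ j = 1 from congrArg Subtype.val hj, one_pow]
      obtain ⟨i, -, hi⟩ := (Nat.dvd_prime_pow hr).1 (orderOf_dvd_of_pow_eq_one h9)
      exact ⟨i, hi⟩
    · obtain ⟨c, rfl⟩ := H662.defectGroup_conj hM hB hE hD
      obtain ⟨e, he, h9⟩ := hx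
      refine ⟨c, ?_⟩
      rw [← h9, show c⁻¹ * (MulAut.conj c).toMonoidHom e * c = e from by
        show c⁻¹ * (c * e * c⁻¹) * c = e
        group]
      exact he
  obtain ⟨n, hn⟩ := IsPGroup.iff_card.1 hS
  have := Fintype.ofFinite H
  have h9 := H648.HeightForm.defect_add (p := r) _ (Blocks.Basic.mem_blockOf_self (M := M) χ)
  rw [hz hM hB hE (hH E hEp).1 (hH E hEp).2 (Blocks.Basic.mem_blockOf_self χ)] at h9
  rw [S0908.result r M hM _ hB E hE, hn, ← pow_succ', Nat.pow_lt_pow_iff_right hr.one_lt] at h8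
  rw [hn, Nat.factorization_pow_self hr]
  omega

end Cfsg.Agent.KM.Ht
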