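import Cfsg.Agent.KM.Ht.Ext
import Cfsg.Agent.KM.Ht.R
import Cfsg.Agent.KM.Ht.Z
import Cfsg.Agent.KM.Ht.P

/-!
# KM, the height inequality: one level and one large prime (helper98)
-/

set_option autoImplicit false
set_option linter.unusedSectionVars false

namespace Cfsg.Agent.KM.Ht

open Cfsg Cfsg.Agent.DL Cfsg.Agent.Blocks Cfsg.Agent.Blocks.Basic

variable {p : ℕ} [Fact p.Prime] {k : Type} [Field k] [CharP k p] {Y : Type} [Group Y] {N : Type} [Fintype N]
  [DecidableEq N] {ρ : Y →* GL N k} {F : MulAut Y} {G : Subgroup Y} [IsAlgClosed k]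

/-- `F` as an automorphism of `G ^ (F ^ m)` -/
def resF (X : Datum p ρ F G) (m : ℕ) : MulAut ↥(GF (F ^ m) G) where
  toFun g := ⟨F g, X.F_mem_G g.2.1, show (F ^ m) (F g) = F g by
    rw [← MulAut.mul_apply, ← pow_succ, pow_succ', MulAut.mul_apply, mem_fix.1 g.2.2]⟩
  invFun g := ⟨F.symm g, (X.F_mem_G_iff _).1 (by rw [F.apply_symm_apply]; exact g.2.1), show (F ^ m) (F.symm g) = F.symm g by
    apply F.injective
    rw [← MulAut.mul_apply, ← pow_succ', pow_succ, MulAut.mul_apply, F.apply_symm_apply, mem_fix.1 g.2.2]⟩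
  left_inv g := Subtype.ext (F.symm_apply_apply g)
  right_inv g := Subtype.ext (F.apply_symm_apply g)
  map_mul' a b := Subtype.ext (map_mul F (a : Y) b)

theorem resF_pow (X : Datum p ρ F G) (m n : ℕ) (g : GF (F ^ m) G) : (((resF X m ^ n) g : GF (F ^ m) G) : Y) = (F ^ n) g := by
  induction n generalizing g with
  | zero => rfl
  | succ n ih => rw [pow_succ, pow_succ, MulAut.mul_apply, MulAut.mul_apply, ih]; rfl

/-- the `r`-elements of `Z0` -/
def rZ (X : Datum p ρ F G) (A : Set Y) (K : Subgroup Y) (r : ℕ) : Subgroup K where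
  carrier := {z | (z : Y) ∈ Z0 X A ∧ ∃ n, z ^ r ^ n = 1}
  one_mem' := ⟨(Z0 X A).one_mem, 0, one_pow _⟩
  mul_mem' := by
    rintro a b ⟨ha, n, hn⟩ ⟨hb, n', hn'⟩
    refine ⟨(Z0 X A).mul_mem ha hb, n + n', ?_⟩
    have hc : Commute a b := Subtype.ext (X.T_comm (Z0_le_T X A ha) (Z0_le_T X A hb))
    rw [hc.mul_pow, pow_add, pow_mul, hn, one_pow, one_mul, mul_comm, pow_mul, hn', one_pow]
  inv_mem' := by
    rintro a ⟨ha, n, hn⟩
    exact ⟨(Z0 X A).inv_mem ha, n, by rw [inv_pow, hn, inv_one]⟩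

theorem rZ_p (X : Datum p ρ F G) (A : Set Y) (K : Subgroup Y) (r : ℕ) : IsPGroup r (rZ X A K r) := fun z => by
  obtain ⟨n, hn⟩ := z.2.2
  exact ⟨n, Subtype.ext hn⟩

theorem rZ_card (X : Datum p ρ F G) (A : Set Y) (F' : MulAut Y) [Finite ↥(GF F' G)] {r : ℕ} (hr : r.Prime) :
    (Nat.card ↥(GF F' (Z0 X A))).factorization r ≤ (Nat.card ↥(rZ X A (GF F' G) r)).factorization r := by
  have := Fact.mk hr
  have hle : GF F' (Z0 X A) ≤ GF F' G := fun z hz => ⟨X.T_le_G (Z0_le_T X A hz.1), hz.2⟩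
  have : Finite ↥(GF F' (Z0 X A)) := Finite.of_injective _ (Subgroup.inclusion_injective hle)
  obtain ⟨P⟩ := (inferInstance : Nonempty (Sylow r ↥(GF F' (Z0 X A))))
  have h1 : (P : Subgroup _).map (Subgroup.inclusion hle) ≤ rZ X A (GF F' G) r := by
    rintro _ ⟨z, hz, rfl⟩
    obtain ⟨n, hn⟩ := P.isPGroup' ⟨z, hz⟩
    exact ⟨z.2.1, n, by rw [← map_pow, show z ^ r ^ n = 1 from congrArg Subtype.val hn, map_one]⟩
  have h2 := Subgroup.card_dvd_of_le h1
  rw [Subgroup.card_map_of_injective (Subgroup.inclusion_injective hle), Sylow.card_eq_multiplicity] at h2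
  exact (hr.pow_dvd_iff_le_factorization Nat.card_pos.ne').1 h2

/-- **One level, one large prime.** -/
theorem lev_ineq (X : Datum p ρ F G) [Fintype ↥(GF F G)] {l : ℕ} {M : Ideal AlgInt} (hM : IsPModular l M) (hlp : l ≠ p)
    {B : Set (IrrCharacter ↥(GF F G))} {D : Subgroup ↥(GF F G)} (hB : IsPBlock M B) (hD : IsDefectGroup l M B D)
    {A : Subgroup Y} (hA : Ctl X (D.map (GF F G).subtype) A) {χ : IrrCharacter ↥(GF F G)} (hχ : χ ∈ B)
    {m : ℕ} (hm : m.Prime) (hlm : ¬ l ∣ m) (hmH : ¬ m ∣ Nat.card ↥(GF F G)) [Fintype ↥(GF (F ^ m) G)]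
    {χ' : GF (F ^ m) G → ℂ} (h1 : IsIrrCharacter _ χ') (h2 : ∀ g g' : GF (F ^ m) G, (g' : Y) = F g → χ' g' = χ' g)
    {n : ℕ} (hn : ¬ m ∣ n)
    (h3 : classInner (fun g : GF F G => χ' (Subgroup.inclusion (GF_le_pow m) g)) (χ : GF F G → ℂ) = n)
    (hν : (Nat.card ↥(GF (F ^ m) G)).factorization l + (charDegree (χ : GF F G → ℂ)).factorization l =
      (Nat.card ↥(GF F G)).factorization l + (charDegree χ').factorization l)
    {r : ℕ} (hr : r.Prime) (hrp : r ≠ p) (hrW : Nat.card X.W < r) (hrH : ¬ r ∣ Nat.card ↥(GF F G)) :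
    (charDegree χ').factorization r + (Nat.card ↥(GF (F ^ m) (Z0 X A))).factorization r ≤
      (Nat.card ↥(GF (F ^ m) G)).factorization r := by
  have := Fact.mk hr
  obtain ⟨z1, z2, z3⟩ := boxZ X A hA.tor
  have hAF : ∀ a ∈ A, F a = a := fun a ha => by
    obtain ⟨d, -, rfl⟩ := hA.le ha
    exact d.2.2
  have hDp := isPGroup_of_isDefectGroup hD
  have hfin : Finite ↥(D.map (GF F G).subtype) := Finite.of_surjective _ (D.equivMapOfInjective _
    (GF F G).subtype_injective).surjective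
  have hAfin : Finite A := Finite.of_injective _ (Subgroup.inclusion_injective hA.le)
  have hAp : IsPGroup l A := (hDp.map _).to_le hA.le
  let j := Subgroup.inclusion (GF_le_pow (F := F) (G := G) m)
  let S := rZ X A (GF (F ^ m) G) r
  obtain ⟨y, hy1, hy2⟩ := core_aut hM hm hlm (resF X m) (MulEquiv.ext fun g => Subtype.ext (by
      rw [resF_pow]; exact g.2.2)) j (Subgroup.inclusion_injective _)
    (fun x => ⟨by rintro ⟨c, rfl⟩; exact Subtype.ext c.2.2,
      fun e => ⟨⟨x, x.2.1, congrArg Subtype.val e⟩, rfl⟩⟩) hmH ⟨χ', h1⟩ (fun g => h2 g _ rfl) χ hn h3 hν hB hχ hD S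
    (by
      obtain ⟨a, ha⟩ := IsPGroup.iff_card.1 (rZ_p X A (GF (F ^ m) G) r)
      rw [ha]
      exact ((Nat.Prime.coprime_iff_not_dvd hr).2 hrH).pow_left a)
    (fun s hs => by
      obtain ⟨hz, a, ha⟩ := hs
      exact ⟨(boxP X A hA.tor hAF).1 _ hz, a, by rw [← map_pow, ha, map_one]⟩)
    (fun g hg s hs => by
      obtain ⟨hz, a, ha⟩ := hs
      refine ⟨z1 g g.2.1 (hA.nrm g g.2.1 (Subgroup.mem_normalizer_fintype ?_)) s hz, a, by
        rw [conj_pow, ha, mul_one, mul_inv_cancel]⟩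
      rintro _ ⟨d, hd, rfl⟩
      obtain ⟨d', hd', e⟩ := (Subgroup.mem_normalizer_iff.1 hg (j d)).1 ⟨d, hd, rfl⟩
      exact ⟨d', hd', congrArg Subtype.val e⟩)
    (by
      rintro s hs _ ⟨d, hd, rfl⟩
      exact Subtype.ext (z2 d (hA.cen ⟨d, hd, rfl⟩) s hs.1))
    (fun y hy ho s hs => Subtype.ext (z2 y (z3 l hM.1 hlp hAfin hAp y y.2.1 (fun a ha => by
      obtain ⟨d, hd, rfl⟩ := hA.le ha
      exact congrArg Subtype.val (hy (j d) ⟨d, hd, rfl⟩)) (by rwa [Subgroup.orderOf_coe])) s hs.1))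
  have h4 := boxR _ r hr (boxS (X.pow hm.pos) r hr hrp hrW) ⟨χ', h1⟩ S y (rZ_p X A _ r) hy1 hy2
  exact (Nat.add_le_add_left (rZ_card X A (F ^ m) hr) _).trans h4

end Cfsg.Agent.KM.Ht
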