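import Cfsg.Agent.KM.Ht.Lev

/-!
# KM, the height inequality (helper98)

`ht : BoxLf → HT`, `ht0 : BoxLf → HT0`; `ht_dvd` is the divisibility of polynomials behind them.
-/

set_option autoImplicit false
set_option linter.unusedSectionVars false

namespace Cfsg.Agent.KM.Ht

open Cfsg Cfsg.Agent.DL Cfsg.Agent.DL.PP Cfsg.Agent.DL.Uni Cfsg.Agent.KZ.Lie Cfsg.Agent.LV.One Cfsg.Agent.Blocks
  Cfsg.Agent.Blocks.Basic Cfsg.Agent.Characters.Core Polynomial Matrix

theorem fact_congr {r : ℕ} (hr : r.Prime) {x b : ℤ} (hb : b ≠ 0) (h : (r : ℤ) ^ (b.natAbs.factorization r + 1) ∣ x - b) :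
    x ≠ 0 ∧ x.natAbs.factorization r = b.natAbs.factorization r := by
  have hb' : b.natAbs ≠ 0 := Int.natAbs_ne_zero.2 hb
  have key : ∀ (y : ℤ) (a : ℕ), (r : ℤ) ^ a ∣ y ↔ r ^ a ∣ y.natAbs := fun y a => by
    rw [← Nat.cast_pow, Int.natCast_dvd]
  have h1 : ¬ (r : ℤ) ^ (b.natAbs.factorization r + 1) ∣ b := fun e => by
    have := (hr.pow_dvd_iff_le_factorization hb').1 ((key _ _).1 e)
    omega
  have h2 : ¬ (r : ℤ) ^ (b.natAbs.factorization r + 1) ∣ x := fun e => h1 (by simpa using dvd_sub e h)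
  have hx : x ≠ 0 := fun e => h2 (e ▸ dvd_zero _)
  have hx' : x.natAbs ≠ 0 := Int.natAbs_ne_zero.2 hx
  have h3 : (r : ℤ) ^ b.natAbs.factorization r ∣ x := by
    simpa using dvd_add ((pow_dvd_pow _ (Nat.le_succ _)).trans h) ((key _ _).2 (Nat.ordProj_dvd _ _))
  have h4 := (hr.pow_dvd_iff_le_factorization hx').1 ((key _ _).1 h3)
  have h5 := mt (hr.pow_dvd_iff_le_factorization hx').2 (mt (key _ _).2 h2)
  exact ⟨hx, by omega⟩

theorem fact_eval {r p N₀ : ℕ} (hr : r.Prime) (hp : p.Prime) (hrp : r ≠ p) (f : ℤ[X]) (h1 : f.eval 1 ≠ 0)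
    (h : (f.eval 1).natAbs * r ∣ N₀) {t : ℤ} (ht : ((N₀ / p ^ N₀.factorization p : ℕ) : ℤ) ∣ t - 1) :
    f.eval t ≠ 0 ∧ (f.eval t).natAbs.factorization r = (f.eval 1).natAbs.factorization r := by
  refine fact_congr hr h1 (dvd_trans ?_ (ht.trans (sub_dvd_eval_sub t 1 f)))
  rw [← Nat.cast_pow, Int.natCast_dvd_natCast]
  have h2 : r ^ ((f.eval 1).natAbs.factorization r + 1) ∣ p ^ N₀.factorization p * (N₀ / p ^ N₀.factorization p) := by
    rw [Nat.ordProj_mul_ordCompl_eq_self, pow_succ]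
    exact (mul_dvd_mul_right (Nat.ordProj_dvd _ _) r).trans h
  exact (Nat.Coprime.pow _ _ ((Nat.coprime_primes hr hp).2 hrp)).dvd_of_dvd_mul_left h2

variable {p : ℕ} [Fact p.Prime] {k : Type} [Field k] [CharP k p] {Y : Type} [Group Y] {N : Type} [Fintype N]
  [DecidableEq N] {ρ : Y →* GL N k} {F : MulAut Y} {G : Subgroup Y} [IsAlgClosed k] {X : Datum p ρ F G}

theorem fact_card {r : ℕ} (_hr : r.Prime) (hrp : r ≠ p) (H : Subgroup Y) [Finite H] :
    (Nat.card H).factorization r = (pc' p H).factorization r := by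
  have h0 : pc' p H ≠ 0 := fun e => not_dvd_pc' (p := p) H (e ▸ dvd_zero p)
  have hp : p.Prime := Fact.out
  rw [← pc_mul_pc' p H, pc, Nat.factorization_mul (pow_ne_zero _ hp.ne_zero) h0, Finsupp.add_apply, Nat.factorization_pow,
    Finsupp.smul_apply, hp.factorization, Finsupp.single_apply, if_neg hrp.symm, smul_zero, zero_add]

variable (f : Fr X) [Fintype ↥(GF F G)] {χ : GF F G → ℂ}

/-- the degree polynomial gives the degree of every lift -/
theorem deg_of_lift (hq : X.QS) (hχ : IsGeneralizedCharacter (GF F G) χ) {g : ℚ[X]} (hg : LfD f χ g) {l j : ℕ}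
    (hl : 0 < l) (hj : l = 1 + f.d * j) [Fintype ↥(GF (F ^ l) G)] (f' : Fr (X.pow hl)) {χ' : GF (F ^ l) G → ℂ} {ε : ℂ}
    (hε : ε = 1 ∨ ε = -1) (h : ∀ w c, classInner χ' (RW f' w c) = ε * classInner χ (RW f w c)) :
    ε * χ' 1 = (g.eval (((p : ℤ) ^ (f.e * j) : ℤ) : ℚ) : ℚ) := by
  have hp : p.Prime := Fact.out
  have := Fintype.ofFinite X.W
  choose m hm using tot_int f hχ
  have h1 : ∀ {l j : ℕ} (hl : 0 < l) (_ : l = 1 + f.d * j) [Fintype ↥(GF (F ^ l) G)] (f' : Fr (X.pow hl))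
      {χ' : GF (F ^ l) G → ℂ} {ε : ℂ}, (ε = 1 ∨ ε = -1) →
      (∀ w c, classInner χ' (RW f' w c) = ε * classInner χ (RW f w c)) →
      (Sm (Pw X) 1).eval ((p : ℤ) ^ (f.e * j)) ≠ 0 ∧
      ε * χ' 1 * ((Sm (Pw X) 1).eval ((p : ℤ) ^ (f.e * j)) : ℤ) = ((Sm (Pw X) m).eval ((p : ℤ) ^ (f.e * j)) : ℤ) := by
    intro l j hl h6 _ f' χ' ε h4 h5
    refine ⟨(lev_ord (D := X.pow hl) (pow_QS hq hl) f' (P := Pw X) (Pw_pow f.L hl h6)).2, ?_⟩
    have h7 := lev_deg (D := X.pow hl) (pow_QS hq hl) f' (P := Pw X) (Pw_pow f.L hl h6) (χ := χ') (ε := ε) (m := m)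
      fun w => by rw [← hm, mul_finsum]; exact finsum_congr (h5 w)
    rw [mul_assoc]
    refine (congrArg (ε * ·) h7).trans ?_
    rcases h4 with rfl | rfl <;> simp
  have h2 : g * (Sm (Pw X) 1).map (Int.castRingHom ℚ) = (Sm (Pw X) m).map (Int.castRingHom ℚ) := by
    refine Polynomial.eq_of_infinite_eval_eq _ _ (Set.infinite_of_forall_exists_gt fun a => ?_)
    obtain ⟨B, hB⟩ := exists_nat_gt a
    obtain ⟨l, j, hl, i, f', χ', ε, h3, -, h4, -, h6, h7, h8⟩ := hg (1 + f.d * B) 1 one_ne_zero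
    have h9 : B < j := lt_of_mul_lt_mul_left (a := f.d) (by omega) (Nat.zero_le _)
    refine ⟨(((p : ℤ) ^ (f.e * j) : ℤ) : ℚ), ?_, hB.trans ?_⟩
    · have h10 := (h1 hl h4 f' h6 h7).2
      rw [h8, show ((p : ℂ) ^ (f.e * j)) = algebraMap ℚ ℂ (((p : ℤ) ^ (f.e * j) : ℤ) : ℚ) by simp, aeval_algebraMap_apply,
        coe_aeval_eq_eval, eq_ratCast] at h10
      show eval _ _ = eval _ _
      rw [eval_mul, eval_map_cast, eval_map_cast]
      exact_mod_cast h10
    · exact_mod_cast h9.trans ((Nat.le_mul_of_pos_left _ f.L.e_pos).trans_lt (Nat.lt_pow_self hp.one_lt))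
  obtain ⟨h3, h4⟩ := h1 hl hj f' hε h
  have h5 := congrArg (eval (((p : ℤ) ^ (f.e * j) : ℤ) : ℚ)) h2
  rw [eval_mul, eval_map_cast, eval_map_cast] at h5
  refine mul_right_cancel₀ (Int.cast_ne_zero.2 h3) (h4.trans ?_)
  exact_mod_cast h5.symm

/-- **The divisibility of polynomials.** -/
theorem ht_dvd (hq : X.QS) {l : ℕ} {M : Ideal AlgInt} (hM : IsPModular l M) (hlp : l ≠ p)
    {B : Set (IrrCharacter ↥(GF F G))} {D : Subgroup ↥(GF F G)} (hB : IsPBlock M B) (hD : IsDefectGroup l M B D)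
    {y : Y} (hy : y ∈ G) (hN : y⁻¹ * F y ∈ X.NN) {A : Subgroup Y} (hA : Ctl (X.conj hy hN) (D.map (GF F G).subtype) A)
    {χ : IrrCharacter ↥(GF F G)} (hχ : χ ∈ B) (hL : LfG f (χ : GF F G → ℂ)) {c : ℚ} {n : ℕ} {u Q P : ℤ[X]}
    (hu : u.IsPrimitive) (hu0 : u.coeff 0 ≠ 0)
    (hg : LfD f (χ : GF F G → ℂ) (C c * (Polynomial.X ^ n * u).map (Int.castRingHom ℚ)))
    (h1 : c * (u.eval 1 : ℤ) = charDegree (χ : GF F G → ℂ)) (hQ1 : Q.eval 1 = pc' p (GF F G))
    (hQ : ∀ (m j : ℕ) (_ : 0 < m), m = 1 + f.d * j → Q.eval ((p : ℤ) ^ (f.e * j)) = pc' p (GF (F ^ m) G))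
    (hP0 : IsUnit (P.coeff 0)) (hP1 : P.eval 1 ≠ 0)
    (hP : ∀ j : ℕ, (P.eval ((p : ℤ) ^ (f.e * j))).natAbs = Nat.card ↥(GF (F ^ (1 + f.d * j)) (Z0 (X.conj hy hN) A))) :
    u * P ∣ Q := by
  have hp : p.Prime := Fact.out
  have hl := hM.1
  have hd0 := (charDegree_pos χ.2).ne'
  have hu1 : u.eval 1 ≠ 0 := fun e => hd0 (by rw [e, Int.cast_zero, mul_zero] at h1; exact_mod_cast h1.symm)
  have hc0 : c ≠ 0 := fun e => hd0 (by rw [e, zero_mul] at h1; exact_mod_cast h1.symm)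
  have hQ0 : Q.eval 1 ≠ 0 := by
    rw [hQ1]
    exact Nat.cast_ne_zero.2 fun e => not_dvd_pc' (p := p) (GF F G) (e ▸ dvd_zero p)
  have huP : (u * P).eval 1 ≠ 0 := by rw [eval_mul]; exact mul_ne_zero hu1 hP1
  have hnum : c.num.natAbs ≠ 0 := Int.natAbs_ne_zero.2 (Rat.num_ne_zero.2 hc0)
  have e1 : c.den * charDegree (χ : GF F G → ℂ) = c.num.natAbs * (u.eval 1).natAbs := by
    have : (c.den : ℤ) * charDegree (χ : GF F G → ℂ) = c.num * u.eval 1 := Int.cast_injective (α := ℚ) (by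
      rw [Int.cast_mul, Int.cast_mul, Int.cast_natCast, Int.cast_natCast, ← h1, ← mul_assoc, Rat.den_mul_eq_num])
    simpa [Int.natAbs_mul] using congrArg Int.natAbs this
  set a := ((u * P).eval 1).natAbs with ha
  have ha0 : a ≠ 0 := Int.natAbs_ne_zero.2 huP
  set W := Nat.card (X.conj hy hN).W
  set h := Nat.card ↥(GF F G) with hh
  have hh0 : h ≠ 0 := Nat.card_pos.ne'
  set N₀ := a * (W.factorial * h) * ((Q.eval 1).natAbs * l) with hN₀
  have hN0 : N₀ ≠ 0 := mul_ne_zero (mul_ne_zero ha0 (mul_ne_zero (Nat.factorial_ne_zero W) hh0))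
    (mul_ne_zero (Int.natAbs_ne_zero.2 hQ0) hl.ne_zero)
  set N₁ := N₀ / p ^ N₀.factorization p with hN₁
  have hN1 : N₁.Coprime p := (Nat.coprime_ordCompl hp hN0).symm
  have hN1' : 0 < N₁ := Nat.ordCompl_pos p hN0
  refine dvd_of_map_dvd (n := (a * c.den : ℕ)) (hu.mul (isPrimitive_of_coeff hP0))
    (Nat.cast_ne_zero.2 (mul_ne_zero ha0 c.den_ne_zero))
    (dvd_of_pow_values hp (by rw [mul_coeff_zero]; exact mul_ne_zero hu0 hP0.ne_zero) fun B => ?_)
  obtain ⟨m, hm, i, f', χ', ε, h2, h3, h4, h5, h6, h7, h8, n', h9, h10⟩ := hL (1 + f.d * B + h + l)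
    (f.d * N₁.totient) (mul_ne_zero f.L.d_pos.ne' (Nat.totient_pos.2 hN1').ne')
  obtain ⟨j', hj'⟩ := (Nat.modEq_iff_dvd' hm).1 h3.symm
  set j := N₁.totient * j' with hj
  have h11 : m = 1 + f.d * j := by rw [hj, ← mul_assoc]; omega
  have h12 : B < j := lt_of_mul_lt_mul_left (a := f.d) (by omega) (Nat.zero_le _)
  set t : ℤ := (p : ℤ) ^ (f.e * j) with ht
  have h13 : (N₁ : ℤ) ∣ t - 1 := by
    have := (Nat.ModEq.pow_totient hN1.symm).pow (j' * f.e)
    rw [one_pow, ← pow_mul, ← mul_assoc, ← hj, mul_comm j] at this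
    have := Nat.ModEq.dvd this.symm
    simpa [ht] using this
  have h14 := deg_of_lift f hq (gen_of_irr χ.2) hg hm h11 f' h5 h6
  obtain ⟨η, rfl, hη⟩ : ∃ η : ℤ, ε = η ∧ η.natAbs = 1 := by
    rcases h5 with rfl | rfl
    exacts [⟨1, by simp, rfl⟩, ⟨-1, by simp, rfl⟩]
  have e2 : c.den * charDegree χ' = c.num.natAbs * (p ^ (f.e * j * n) * (u.eval t).natAbs) := by
    rw [eval_mul, eval_C, eval_map_cast, irr_one_eq_charDegree h4] at h14
    have h17 : ((η * charDegree χ' : ℤ) : ℚ) = c * ((Polynomial.X ^ n * u).eval t : ℤ) := by exact_mod_cast h14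
    have h16 : (c.den : ℤ) * (η * charDegree χ') = c.num * (Polynomial.X ^ n * u).eval t := by
      refine Int.cast_injective (α := ℚ) ?_
      rw [Int.cast_mul, h17, Int.cast_mul, ← mul_assoc, Int.cast_natCast, Rat.den_mul_eq_num]
    have h18 := congrArg Int.natAbs h16
    rw [eval_mul, eval_pow, eval_X, ht, ← pow_mul] at h18
    simpa [Int.natAbs_mul, hη, Int.natAbs_pow] using h18
  have hd1 := (charDegree_pos h4).ne'
  have hut : (u.eval t).natAbs ≠ 0 := fun e => mul_ne_zero c.den_ne_zero hd1 (by rw [e2, e, mul_zero, mul_zero])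
  -- valuations of the degrees
  have v1 : ∀ r, r.Prime → r ≠ p → c.den.factorization r + (charDegree χ').factorization r =
      c.num.natAbs.factorization r + (u.eval t).natAbs.factorization r := fun r hr hrp => by
    have := congrArg (fun x : ℕ => x.factorization r) e2
    simp only [Nat.factorization_mul c.den_ne_zero hd1, Nat.factorization_mul hnum
      (mul_ne_zero (pow_ne_zero _ hp.ne_zero) hut), Nat.factorization_mul (pow_ne_zero _ hp.ne_zero) hut,
      Finsupp.add_apply, Nat.factorization_pow, Finsupp.smul_apply, hp.factorization, Finsupp.single_apply,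
      if_neg hrp.symm, smul_zero, zero_add] at this
    exact this
  have v2 : c.den.factorization l + (charDegree (χ : GF F G → ℂ)).factorization l =
      c.num.natAbs.factorization l + (u.eval 1).natAbs.factorization l := by
    have := congrArg (fun x : ℕ => x.factorization l) e1
    simp only [Nat.factorization_mul c.den_ne_zero hd0, Nat.factorization_mul hnum (Int.natAbs_ne_zero.2 hu1),
      Finsupp.add_apply] at this
    exact this
  have v3 : ∀ r, r.Prime → r ≠ p → (Nat.card ↥(GF (F ^ m) G)).factorization r = (Q.eval t).natAbs.factorization r :=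
    fun r hr hrp => by rw [fact_card hr hrp, hQ m j hm h11, Int.natAbs_natCast]
  have v4 := (fact_eval hl hp hlp Q hQ0 (N₀ := N₀) (Dvd.intro_left _ rfl) h13).2
  have v5 := (fact_eval hl hp hlp u hu1 (N₀ := N₀) (mul_dvd_mul (dvd_mul_of_dvd_left (by
    rw [ha, eval_mul, Int.natAbs_mul]; exact dvd_mul_right _ _) _) (dvd_mul_left _ _)) h13).2
  have v6 : h.factorization l = (Q.eval 1).natAbs.factorization l := by rw [hh, fact_card hl hlp, hQ1, Int.natAbs_natCast]
  have hν : (Nat.card ↥(GF (F ^ m) G)).factorization l + (charDegree (χ : GF F G → ℂ)).factorization l =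
      h.factorization l + (charDegree χ').factorization l := by
    have := v1 l hl hlp
    have := v3 l hl hlp
    omega
  have hlm : ¬ l ∣ m := fun e => by
    have := (Nat.prime_dvd_prime_iff_eq hl h7).1 e
    omega
  have hmH : ¬ m ∣ h := fun e => by
    have := Nat.le_of_dvd (Nat.pos_of_ne_zero hh0) e
    omega
  have hPt : (P.eval t).natAbs = Nat.card ↥(GF (F ^ m) (Z0 (X.conj hy hN) A)) := by rw [hP j, ← h11]
  have hPt0 : (P.eval t).natAbs ≠ 0 := by
    have : Finite ↥(GF (F ^ m) (Z0 (X.conj hy hN) A)) := Finite.of_injective _ (Subgroup.inclusion_injective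
      (show GF (F ^ m) (Z0 (X.conj hy hN) A) ≤ GF (F ^ m) G from fun z hz =>
        ⟨(X.conj hy hN).T_le_G (Z0_le_T _ _ hz.1), hz.2⟩))
    rw [hPt]
    exact Nat.card_pos.ne'
  have hQt : (Q.eval t).natAbs ≠ 0 := by
    rw [hQ m j hm h11, Int.natAbs_natCast]
    exact fun e => not_dvd_pc' (p := p) (GF (F ^ m) G) (e ▸ dvd_zero p)
  have huPt : ((u * P).eval t).natAbs = (u.eval t).natAbs * (P.eval t).natAbs := by rw [eval_mul, Int.natAbs_mul]
  refine ⟨f.e * j, ((u * P).eval t).natAbs.factorization p, h12.trans_le (Nat.le_mul_of_pos_left _ f.L.e_pos), ?_⟩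
  rw [← Int.natAbs_dvd_natAbs, Int.natAbs_mul, Int.natAbs_pow, Int.natAbs_natCast, eval_mul (p := C _), eval_C,
    Int.natAbs_mul, Int.natAbs_natCast, ← ht]
  have hx0 : ((u * P).eval t).natAbs ≠ 0 := by rw [huPt]; exact mul_ne_zero hut hPt0
  have hy0 : a * c.den * (Q.eval t).natAbs ≠ 0 := mul_ne_zero (mul_ne_zero ha0 c.den_ne_zero) hQt
  refine (Nat.factorization_prime_le_iff_dvd hx0 (mul_ne_zero (pow_ne_zero _ hp.ne_zero) hy0)).1 fun r hr => ?_
  rw [Nat.factorization_mul (pow_ne_zero _ hp.ne_zero) hy0, Finsupp.add_apply, Nat.factorization_pow, Finsupp.smul_apply,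
    Nat.factorization_mul (mul_ne_zero ha0 c.den_ne_zero) hQt, Finsupp.add_apply,
    Nat.factorization_mul ha0 c.den_ne_zero, Finsupp.add_apply]
  by_cases hrp : r = p
  · rw [hrp, hp.factorization_self, smul_eq_mul, mul_one]
    omega
  by_cases hs : r ∣ W.factorial * h
  · have := (fact_eval hr hp hrp (u * P) huP (N₀ := N₀) (dvd_mul_of_dvd_left (mul_dvd_mul_left _ hs) _) h13).2
    rw [← ha] at this
    omega
  · have w1 : W < r := by
      by_contra e
      exact hs (dvd_mul_of_dvd_left (Nat.dvd_factorial hr.pos (not_lt.1 e)) _)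
    have w2 := lev_ineq (X.conj hy hN) hM hlp hB hD hA hχ h7 hlm hmH h4 h8 h9 h10 hν hr hrp w1
      fun e => hs (dvd_mul_of_dvd_right e _)
    have w3 := v1 r hr hrp
    have w4 := v3 r hr hrp
    rw [← hPt] at w2
    rw [huPt, Nat.factorization_mul hut hPt0, Finsupp.add_apply]
    omega

/-- **The height inequality**, for one character. -/
theorem ht_one (hq : X.QS) {l : ℕ} {M : Ideal AlgInt} (hM : IsPModular l M) (hlp : l ≠ p)
    {B : Set (IrrCharacter ↥(GF F G))} {D : Subgroup ↥(GF F G)} (hB : IsPBlock M B) (hD : IsDefectGroup l M B D)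
    {y : Y} (hy : y ∈ G) (hN : y⁻¹ * F y ∈ X.NN) {A : Subgroup Y} (hA : Ctl (X.conj hy hN) (D.map (GF F G).subtype) A)
    {χ : IrrCharacter ↥(GF F G)} (hχ : χ ∈ B) (hL : LfG f (χ : GF F G → ℂ)) {n : ℕ} (hn : DegLe f (χ : GF F G → ℂ) l n) :
    (charDegree (χ : GF F G → ℂ)).factorization l + (Nat.card ↥(GF F (Z0 (X.conj hy hN) A))).factorization l ≤
      (Nat.card ↥(GF F G)).factorization l + n := by
  have hl := hM.1
  have := Fintype.ofFinite X.W
  obtain ⟨g, h1, h2⟩ := exists_poly f hq hL.lfE (gen_of_irr χ.2)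
  obtain ⟨Q, h3, h4⟩ := exists_ord hq f
  obtain ⟨c, a, u, h5, h6, h7, rfl⟩ := exists_form (g := g) fun e =>
    irr_one_ne_zero χ.2 (by rw [← h2, e, eval_zero, Rat.cast_zero])
  have h8 : c * (u.eval 1 : ℤ) = charDegree (χ : GF F G → ℂ) := by
    rw [irr_one_eq_charDegree χ.2, eval_mul, eval_C, ← Int.cast_one, eval_map_cast, eval_mul, eval_pow, eval_X, one_pow,
      one_mul] at h2
    exact_mod_cast h2
  obtain ⟨-, P, hP0, hP1, hP⟩ := boxP (X.conj hy hN) A hA.tor fun a ha => by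
    obtain ⟨d, -, rfl⟩ := hA.le ha
    exact d.2.2
  have : Finite ↥(GF F (Z0 (X.conj hy hN) A)) := Finite.of_injective _ (Subgroup.inclusion_injective
    (show GF F (Z0 (X.conj hy hN) A) ≤ GF F G from fun z hz => ⟨(X.conj hy hN).T_le_G (Z0_le_T _ _ hz.1), hz.2⟩))
  have hP2 : (P.eval 1).natAbs ≠ 0 := by rw [hP1]; exact Nat.card_pos.ne'
  have h9 := ht_dvd f hq hM hlp hB hD hy hN hA hχ hL h6 h7 h1 h8 h3 h4 hP0 (Int.natAbs_ne_zero.1 hP2)
    fun j => hP f.d f.e j (f.L.pow _)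
  have h10 := Int.natAbs_dvd_natAbs.2 (eval_dvd (x := 1) h9)
  have hd0 := (charDegree_pos χ.2).ne'
  have hu1 : (u.eval 1).natAbs ≠ 0 := Int.natAbs_ne_zero.2 fun e =>
    hd0 (by rw [e, Int.cast_zero, mul_zero] at h8; exact_mod_cast h8.symm)
  have hnum : c.num.natAbs ≠ 0 := Int.natAbs_ne_zero.2 (Rat.num_ne_zero.2 h5)
  rw [eval_mul, Int.natAbs_mul, h3, Int.natAbs_natCast] at h10
  have h11 := (Nat.factorization_le_iff_dvd (mul_ne_zero hu1 hP2) Nat.card_pos.ne').2
    (h10.trans (Dvd.intro_left _ (pc_mul_pc' p (GF F G)))) l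
  rw [Nat.factorization_mul hu1 hP2, Finsupp.add_apply, hP1] at h11
  have e1 : c.den * charDegree (χ : GF F G → ℂ) = c.num.natAbs * (u.eval 1).natAbs := by
    have : (c.den : ℤ) * charDegree (χ : GF F G → ℂ) = c.num * u.eval 1 := Int.cast_injective (α := ℚ) (by
      rw [Int.cast_mul, Int.cast_mul, Int.cast_natCast, Int.cast_natCast, ← h8, ← mul_assoc, Rat.den_mul_eq_num])
    simpa [Int.natAbs_mul] using congrArg Int.natAbs this
  have v2 := congrArg (fun x : ℕ => x.factorization l) e1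
  simp only [Nat.factorization_mul c.den_ne_zero hd0, Nat.factorization_mul hnum hu1, Finsupp.add_apply] at v2
  have v3 : c.num.natAbs.factorization l ≤ n := by
    by_cases e : (l : ℤ) ∣ c.den
    · have : ¬ l ∣ c.num.natAbs := fun e' => hl.not_dvd_one (by
        rw [← c.reduced]
        exact Nat.dvd_gcd e' (Int.natCast_dvd_natCast.1 e))
      rw [Nat.factorization_eq_zero_of_not_dvd this]
      exact Nat.zero_le _
    · have h12 := hn _ h1 c.num c.den (Polynomial.X ^ a * u)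
        (by rw [← mul_assoc, ← C_mul, Int.cast_natCast, Rat.den_mul_eq_num]) e
      by_contra h13
      apply h12
      rw [← Nat.cast_pow, Int.natCast_dvd]
      exact (hl.pow_dvd_iff_le_factorization hnum).2 (by omega)
  omega

/-- **The height inequality.** -/
theorem ht (hL : BoxLf) : HT := by
  intro p _ k _ _ Y _ N _ _ ρ F G _ X f _ hq l M hM hlp B D hB hD y hy hN A hA χ hχ n hn
  exact ht_one f hq hM hlp hB hD hy hN hA hχ (hL f hq _ χ.2) hn

theorem Toral.ctl {D : Subgroup Y} {y : Y} {hy : y ∈ G} {hN : y⁻¹ * F y ∈ X.NN} (h : D ≤ Z0 (X.conj hy hN) D) :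
    Ctl (X.conj hy hN) D D :=
  ⟨le_rfl, h.trans (Z0_le_T _ _), fun _ _ h => h, (h.trans (Z0_le_T _ _)).trans ((X.conj hy hN).T_le_cen _)⟩

/-- from the defect to the height -/
theorem height_le {H : Type*} [Group H] [Finite H] {l : ℕ} {M : Ideal AlgInt} (hM : IsPModular l M)
    {B : Set (IrrCharacter H)} {D : Subgroup H} (hB : IsPBlock M B) (hD : IsDefectGroup l M B D) (χ : H → ℂ) {n : ℕ}
    (h : (charDegree χ).factorization l + (Nat.card D).factorization l ≤ (Nat.card H).factorization l + n) :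
    blockHeight l B χ ≤ n := by
  have := Local.isPrime_of_isPModular hM
  have h1 := DefectCard.card_defectGroup hM B hB (fun y hy => Orthogonality.weak_block_orthogonality hM B
    (fun g => Osima.memLocalRing_blockCoeff hM hB g) (x := 1) (y := y)
    (by rw [orderOf_one]; exact fun h => hM.1.one_lt.ne' (Nat.dvd_one.1 h)) hy) D hD
  rw [h1, Nat.factorization_pow, Finsupp.smul_apply, hM.1.factorization_self, smul_eq_mul, mul_one, blockDefect_def] at h
  rw [blockHeight_def]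
  obtain ⟨ψ, hψ⟩ := isPBlock_nonempty hB
  have h2 : sInf ((fun χ : IrrCharacter H => (charDegree (χ : H → ℂ)).factorization l) '' B) ≤
      (Nat.card H).factorization l :=
    (Nat.sInf_le (Set.mem_image_of_mem _ hψ)).trans ((Nat.factorization_le_iff_dvd (charDegree_pos ψ.2).ne' Nat.card_pos.ne').2
      (H594.Cyclic.degree_dvd ψ.2 (irr_one_eq_charDegree ψ.2)) l)
  omega

/-- **The height for toral defect groups**, for one character. -/
theorem ht0_one (hq : X.QS) {l : ℕ} {M : Ideal AlgInt} (hM : IsPModular l M) (hlp : l ≠ p)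
    {B : Set (IrrCharacter ↥(GF F G))} {D : Subgroup ↥(GF F G)} (hB : IsPBlock M B) (hD : IsDefectGroup l M B D)
    (hT : Toral X (D.map (GF F G).subtype)) {χ : IrrCharacter ↥(GF F G)} (hχ : χ ∈ B) (hL : LfG f (χ : GF F G → ℂ)) {n : ℕ}
    (hn : DegLe f (χ : GF F G → ℂ) l n) : blockHeight l B (χ : GF F G → ℂ) ≤ n := by
  obtain ⟨y, hy, hN, h⟩ := hT
  have h1 := ht_one f hq hM hlp hB hD hy hN (Toral.ctl h) hχ hL hn
  refine height_le hM hB hD _ (le_trans (Nat.add_le_add_left ?_ _) h1)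
  have : Finite ↥(GF F (Z0 (X.conj hy hN) (D.map (GF F G).subtype))) := Finite.of_injective _ (Subgroup.inclusion_injective
    (show GF F (Z0 (X.conj hy hN) (D.map (GF F G).subtype)) ≤ GF F G from fun z hz =>
      ⟨(X.conj hy hN).T_le_G (Z0_le_T _ _ hz.1), hz.2⟩))
  refine (Nat.factorization_le_iff_dvd Nat.card_pos.ne' Nat.card_pos.ne').2 ?_ l
  rw [← Subgroup.card_map_of_injective (K := D) (GF F G).subtype_injective]
  refine Subgroup.card_dvd_of_le fun z hz => ⟨h hz, ?_⟩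
  obtain ⟨d, -, rfl⟩ := hz
  exact d.2.2

/-- **Height zero** for toral defect groups. -/
theorem ht0 (hL : BoxLf) : HT0 := by
  intro p _ k _ _ Y _ N _ _ ρ F G _ X f _ hq l M hM hlp B D hB hD hT χ hχ hd
  exact Nat.le_zero.1 (ht0_one f hq hM hlp hB hD hT hχ (hL f hq _ χ.2) hd.degLe)

end Cfsg.Agent.KM.Ht
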