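import Cfsg.Agent.KM.Ht.BlkC
import Cfsg.Agent.H594.CyclicMain
import Cfsg.Agent.Blocks.ExistsModular
import Cfsg.Agent.CharactersDeep.ModCongr

/-!
# KM, the height inequality: a group with an automorphism of prime order (helper98)
-/

set_option autoImplicit false
set_option linter.unusedSectionVars false

namespace Cfsg.Agent.KM.Ht

open Cfsg Cfsg.Agent.Blocks Cfsg.Agent.Blocks.Local Cfsg.Agent.Blocks.Basic Cfsg.Agent.Characters

variable {l : ℕ} {M : Ideal AlgInt} {Γ H : Type*} [Group Γ] [Fintype Γ] [Group H] [Fintype H]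
  {m : ℕ} {φ : Γ →* ℂˣ} {σ : Γ} {ι : H →* Γ}

theorem Gl.not_dvd (h : Gl m φ σ ι) : ¬ m ∣ Nat.card H := fun e => by
  have h1 : Nat.card H ∣ Nat.card φ.ker :=
    Subgroup.card_dvd_of_injective (ι.codRestrict φ.ker h.phi_iota) fun a b e => h.inj (congrArg Subtype.val e)
  exact h.prime.one_lt.ne' (Nat.eq_one_of_dvd_coprimes h.cop (e.trans h1) dvd_rfl)

/-- the canonical extension, and the correspondent from a multiplicity prime to `m` -/
theorem Gl.exists_ext (h : Gl m φ σ ι) [Fintype φ.ker] (χ₀ : IrrCharacter φ.ker)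
    (hinv : ∀ g g' : φ.ker, (g' : Γ) = σ * g * σ⁻¹ → (χ₀ : φ.ker → ℂ) g' = (χ₀ : φ.ker → ℂ) g) (χ : IrrCharacter H) {n : ℕ}
    (hn : ¬ m ∣ n) (hm : classInner (fun c : H => (χ₀ : φ.ker → ℂ) ⟨ι c, h.phi_iota c⟩) (χ : H → ℂ) = n) :
    ∃ (χh : IrrCharacter Γ) (ε : ℂ), (ε = 1 ∨ ε = -1) ∧ (∀ g : φ.ker, (χh : Γ → ℂ) g = (χ₀ : φ.ker → ℂ) g) ∧
      ∀ c, (χh : Γ → ℂ) (ι c * σ) = ε * (χ : H → ℂ) c := by
  classical
  have := Fact.mk h.prime
  have hidx : φ.ker.index = Nat.card (Subgroup.zpowers σ) := by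
    have h1 : φ.range = Subgroup.zpowers (φ σ) := by
      refine le_antisymm ?_ ((Subgroup.zpowers_le).2 ⟨σ, rfl⟩)
      rintro _ ⟨g, rfl⟩
      obtain ⟨k, hk, j, rfl⟩ := h.dec g
      rw [map_mul, show φ k = 1 from hk, one_mul, map_pow]
      exact Subgroup.npow_mem_zpowers _ _
    rw [Subgroup.index_ker, h1, Nat.card_zpowers, h.card_zp, orderOf_eq_prime (h.pow σ) h.ne]
  have htop : φ.ker ⊔ Subgroup.zpowers σ = ⊤ := by
    refine eq_top_iff.2 fun g _ => ?_
    obtain ⟨k, hk, j, rfl⟩ := h.dec g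
    exact Subgroup.mul_mem_sup hk (Subgroup.npow_mem_zpowers _ _)
  have hinv' : ∀ (j : ℕ) (g g' : φ.ker), (g' : Γ) = σ ^ j * g * (σ ^ j)⁻¹ →
      (χ₀ : φ.ker → ℂ) g' = (χ₀ : φ.ker → ℂ) g := by
    intro j
    induction j with
    | zero => intro g g' e; rw [show g' = g from Subtype.ext (by simpa using e)]
    | succ j ih =>
      intro g g' e
      rw [← ih g ⟨σ ^ j * g * (σ ^ j)⁻¹, (MonoidHom.normal_ker φ).conj_mem _ g.2 _⟩ rfl]
      refine hinv _ _ ?_
      rw [e, pow_succ']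
      show _ = σ * (σ ^ j * g * (σ ^ j)⁻¹) * σ⁻¹
      group
  obtain ⟨χh, h1, h2⟩ := H594.Cyclic.exists_canonical φ.ker (Subgroup.zpowers σ)
    (fun s _ g hg => (MonoidHom.normal_ker φ).conj_mem g hg s) h.cop' hidx htop χ₀ (fun s hs g g' e => by
      obtain ⟨j, rfl⟩ := (mem_powers_iff_mem_zpowers.2 hs)
      exact hinv' j g g' e)
  obtain ⟨β, ε, h3, h4, -⟩ := H594.Cyclic.core φ.ker (Subgroup.zpowers σ) h.cop' hidx ι.range h.rng_eq χh.2
    (by rw [show (fun g : φ.ker => (χh : Γ → ℂ) g) = (χ₀ : φ.ker → ℂ) from funext h1]; exact χ₀.2) h2 rfl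
  let e := MonoidHom.ofInjective h.inj
  have hβ : IsIrrCharacter H ((β : ι.range → ℂ) ∘ e.toMonoidHom) := Core.isIrr_comp _ e.surjective β.2
  have h5 : ∀ c, (χh : Γ → ℂ) (ι c * σ) = (ε : ℂ) * ((β : ι.range → ℂ) ∘ e.toMonoidHom) c := fun c => h4 (e c) σ rfl
  have h6 : (β : ι.range → ℂ) ∘ e.toMonoidHom = (χ : H → ℂ) := by
    by_contra hne
    obtain ⟨M', hM'⟩ := ExistsModular.exists_isPModular h.prime
    have := isPrime_of_isPModular hM'
    have h7 := Core.classInner_irr_ne hβ χ.2 hne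
    apply hn
    rw [← memLocalIdeal_natCast_iff hM', ← hm, ← sub_zero (classInner _ _), ← mul_zero (ε : ℂ), ← h7,
      Core.classInner_def, Core.classInner_def, mul_left_comm, ← mul_sub, Finset.mul_sum Finset.univ _ (ε : ℂ)]
    refine memLocalIdeal_mul_left (memLocalRing_inv_natCast hM' h.not_dvd) (memLocalIdeal_sum_sub_sum fun c _ => ?_)
    rw [← mul_assoc, ← h5, ← sub_mul, ← h1]
    refine memLocalIdeal_mul_right (memLocalIdeal_sub_comm ?_)
      (memLocalRing_of_isIntegral (DefectCard.isIntegral_conj (DefectCard.isIntegral_irr χ.2 c)))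
    have h8 := CharactersDeep.ModCongr.memLocalIdeal_character_sub hM' χh.2 (σ * ι c) σ
      ⟨ι c, rfl, (h.comm c).symm, ⟨1, by rw [h.orderOf_eq, pow_one]⟩, fun e => h.not_dvd (e.trans (by
        rw [orderOf_injective ι h.inj]; exact orderOf_dvd_natCard c))⟩
    rwa [inv_mul_cancel_left, ← h.comm] at h8
  refine ⟨χh, ε, ?_, h1, fun c => by rw [h5, h6]⟩
  rcases h3 with rfl | rfl <;> simp

/-- **Core C.** -/
theorem core_aut {K : Type*} [Group K] [Fintype K] (hM : IsPModular l M) (hm : m.Prime) (hlm : ¬ l ∣ m) (α : MulAut K)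
    (hα : α ^ m = 1) (j : H →* K) (hj : Function.Injective j) (hr : ∀ x, x ∈ j.range ↔ α x = x) (hmH : ¬ m ∣ Nat.card H)
    (χ' : IrrCharacter K) (hinv : ∀ g, (χ' : K → ℂ) (α g) = (χ' : K → ℂ) g) (χ : IrrCharacter H) {n : ℕ} (hn : ¬ m ∣ n)
    (hmul : classInner (fun c : H => (χ' : K → ℂ) (j c)) (χ : H → ℂ) = n)
    (hν : (Nat.card K).factorization l + (charDegree (χ : H → ℂ)).factorization l =
      (Nat.card H).factorization l + (charDegree (χ' : K → ℂ)).factorization l)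
    {B : Set (IrrCharacter H)} (hB : IsPBlock M B) (hχ : χ ∈ B) {D : Subgroup H} (hD : IsDefectGroup l M B D)
    (S : Subgroup K) (hSc : (Nat.card S).Coprime (Nat.card H)) (hSα : ∀ s ∈ S, α s ∈ S)
    (hSN : ∀ g ∈ Subgroup.normalizer (D.map j : Set K), ∀ s ∈ S, g * s * g⁻¹ ∈ S)
    (hSD : S ≤ Subgroup.centralizer (D.map j : Set K))
    (hSy : ∀ y, y ∈ Subgroup.centralizer (D.map j : Set K) → ¬ l ∣ orderOf y → ∀ s ∈ S, y * s = s * y) :
    ∃ y, (∀ s ∈ S, y * s = s * y) ∧ ∀ s ∈ S, (χ' : K → ℂ) (y * s) ≠ 0 := by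
  classical
  have := Fact.mk hm
  have : NeZero m := ⟨hm.ne_zero⟩
  obtain ⟨ζ, hζ⟩ := IsCyclic.exists_generator (α := rootsOfUnity m ℂ)
  have hoζ : orderOf ζ = m := by rw [orderOf_eq_card_of_forall_mem_zpowers hζ, Complex.card_rootsOfUnity]
  let ψ : rootsOfUnity m ℂ →* MulAut K :=
    monoidHomOfForallMemZpowers hζ (g' := α) (by rw [hoζ]; exact orderOf_dvd_of_pow_eq_one hα)
  have hψ : ψ ζ = α := monoidHomOfForallMemZpowers_apply_gen _ _
  let Γ := K ⋊[ψ] rootsOfUnity m ℂ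
  have : Finite Γ := Finite.of_equiv _ SemidirectProduct.equivProd.symm
  have := Fintype.ofFinite Γ
  let φ : Γ →* ℂˣ := (rootsOfUnity m ℂ).subtype.comp SemidirectProduct.rightHom
  let i : K →* Γ := SemidirectProduct.inl
  let σ : Γ := SemidirectProduct.inr ζ
  have hi : Function.Injective i := SemidirectProduct.inl_injective
  have hker : ∀ x, φ x = 1 ↔ x ∈ i.range := fun x => by
    rw [SemidirectProduct.range_inl_eq_ker_rightHom, MonoidHom.mem_ker]
    exact ⟨fun e => Subtype.ext e, fun e => congrArg Subtype.val e⟩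
  have hφi : ∀ x, φ (i x) = 1 := fun x => (hker _).2 ⟨x, rfl⟩
  have hσ : ∀ x, σ * i x * σ⁻¹ = i (α x) := fun x => by
    rw [← hψ]
    exact ((SemidirectProduct.inl_aut ζ x).trans (by rw [map_inv])).symm
  let e : K ≃* φ.ker := MulEquiv.ofBijective (i.codRestrict φ.ker hφi)
    ⟨fun a b e => hi (congrArg Subtype.val e), fun x => by
      obtain ⟨a, ha⟩ := (hker x).1 x.2
      exact ⟨a, Subtype.ext ha⟩⟩
  have he : ∀ x, ((e x : φ.ker) : Γ) = i x := fun x => rfl
  have hcK : Nat.card φ.ker = Nat.card K := (Nat.card_congr e.toEquiv).symm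
  have hKH : Nat.card K ≡ Nat.card H [MOD m] := by
    have h1 : IsPGroup m (rootsOfUnity m ℂ) := IsPGroup.of_card (n := 1) (by rw [Complex.card_rootsOfUnity, pow_one])
    let _ : MulAction (rootsOfUnity m ℂ) K := MulAction.compHom K ψ
    have h2 := h1.card_modEq_card_fixedPoints K
    have h3 : MulAction.fixedPoints (rootsOfUnity m ℂ) K = j.range := by
      ext x
      rw [SetLike.mem_coe, hr]
      refine ⟨fun h => hψ ▸ h ζ, fun h g => ?_⟩
      have h4 : Subgroup.zpowers ζ ≤ MulAction.stabilizer (rootsOfUnity m ℂ) x :=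
        Subgroup.zpowers_le.2 (show ψ ζ x = x by rw [hψ, h])
      exact h4 (hζ g)
    rw [h3] at h2
    exact h2.trans (by rw [Nat.card_congr (MonoidHom.ofInjective hj).toEquiv]; rfl)
  have h : Gl m φ σ (i.comp j) :=
    { prime := hm
      pow := fun x => (SemidirectProduct.rightHom x).2
      ne := fun e => hm.one_lt.ne' (by rw [← hoζ, orderOf_eq_one_iff]; exact Subtype.ext e)
      ord := by rw [← map_pow, orderOf_dvd_iff_pow_eq_one.1 (dvd_of_eq hoζ), map_one]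
      cop := by
        rw [hcK]
        exact ((Nat.Prime.coprime_iff_not_dvd hm).2 fun e => hmH ((hKH.dvd_iff dvd_rfl).1 e)).symm
      inj := hi.comp hj
      rng := fun x => by
        constructor
        · rintro ⟨c, rfl⟩
          refine ⟨hφi _, ?_⟩
          have h1 := hσ (j c)
          rw [(hr _).1 ⟨c, rfl⟩, mul_inv_eq_iff_eq_mul] at h1
          exact h1.symm
        · rintro ⟨h1, h2⟩
          obtain ⟨a, rfl⟩ := (hker x).1 h1
          obtain ⟨c, rfl⟩ := (hr a).2 (hi (by rw [← hσ, ← h2, mul_inv_cancel_right]))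
          exact ⟨c, rfl⟩ }
  let χ₀ : IrrCharacter φ.ker := ⟨(χ' : K → ℂ) ∘ e.symm.toMonoidHom, Core.isIrr_comp _ e.symm.surjective χ'.2⟩
  have hχ₀ : ∀ x, (χ₀ : φ.ker → ℂ) (e x) = (χ' : K → ℂ) x := fun x => by
    show (χ' : K → ℂ) (e.symm (e x)) = _
    rw [e.symm_apply_apply]
  obtain ⟨χh, ε, hε, h1, h2⟩ := h.exists_ext χ₀ (fun g g' e' => by
    obtain ⟨a, rfl⟩ := e.surjective g
    rw [he, hσ] at e'
    rw [show g' = e (α a) from Subtype.ext e', hχ₀, hχ₀, hinv]) χ hn (by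
      rw [← hmul]
      congr 1
      funext c
      exact hχ₀ (j c))
  have h3 : ∀ x, (χh : Γ → ℂ) (i x) = (χ' : K → ℂ) x := fun x => by rw [← he, h1, hχ₀]
  have hmap : D.map (i.comp j) = (D.map j).map i := (Subgroup.map_map _ _ _).symm
  have hσS : ∀ (n : ℕ), ∀ s ∈ S.map i, σ ^ n * s * (σ ^ n)⁻¹ ∈ S.map i := by
    intro n
    induction n with
    | zero => intro s hs; simpa using hs
    | succ n ih =>
      rintro _ ⟨s, hs, rfl⟩
      have := ih _ ⟨α s, hSα s hs, rfl⟩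
      rw [← hσ] at this
      rw [pow_succ]
      convert this using 1
      group
  have hσD : σ ∈ Subgroup.normalizer (D.map (i.comp j) : Set Γ) := by
    refine Subgroup.centralizer_le_normalizer _ ?_
    rintro _ ⟨d, -, rfl⟩
    exact h.comm d
  obtain ⟨y, hy1, hy2, hy3⟩ := h.core hM hlm χh χ hε h2 (by
      rw [hcK, hν, charDegree_def (χh : Γ → ℂ), ← map_one i, h3, ← charDegree_def]) hB hχ hD (S.map i)
    (by rintro _ ⟨s, -, rfl⟩; exact hφi s) (by rw [Subgroup.card_map_of_injective hi]; exact hSc)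
    (fun g hg s hs => by
      obtain ⟨k, hk, n, rfl⟩ := h.dec g
      obtain ⟨a, rfl⟩ := (hker k).1 hk
      have h4 : i a ∈ Subgroup.normalizer (D.map (i.comp j) : Set Γ) := by
        have := Subgroup.mul_mem _ hg (Subgroup.inv_mem _ (Subgroup.pow_mem _ hσD n))
        rwa [mul_inv_cancel_right] at this
      have h5 : a ∈ Subgroup.normalizer (D.map j : Set K) := by
        refine Subgroup.mem_normalizer_fintype fun d hd => ?_
        have h6 := (Subgroup.mem_normalizer_iff.1 h4 (i d)).1 (hmap ▸ ⟨d, hd, rfl⟩)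
        rw [hmap, ← map_inv, ← map_mul, ← map_mul] at h6
        obtain ⟨d', hd', e'⟩ := h6
        exact hi e' ▸ hd'
      obtain ⟨t, ht, e'⟩ := hσS n s hs
      refine ⟨a * t * a⁻¹, hSN a h5 t ht, ?_⟩
      rw [map_mul, map_mul, map_inv, e']
      group)
    (by
      rintro _ ⟨s, hs, rfl⟩ _ ⟨d, hd, rfl⟩
      show i (j d) * i s = i s * i (j d)
      rw [← map_mul, ← map_mul, hSD hs (j d) ⟨d, hd, rfl⟩])
    (fun y hy hc ho => by
      obtain ⟨a, rfl⟩ := (hker y).1 hy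
      rintro _ ⟨s, hs, rfl⟩
      rw [← map_mul, ← map_mul, hSy a ?_ (by rwa [orderOf_injective i hi] at ho) s hs]
      rintro _ ⟨d, hd, rfl⟩
      exact hi (by rw [map_mul, map_mul]; exact hc _ ⟨d, hd, rfl⟩))
  obtain ⟨a, rfl⟩ := (hker y).1 hy1
  refine ⟨a, fun s hs => hi (by rw [map_mul, map_mul]; exact hy2 _ ⟨s, hs, rfl⟩), fun s hs => ?_⟩
  rw [← h3, map_mul]
  exact hy3 _ ⟨s, hs, rfl⟩

end Cfsg.Agent.KM.Ht
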