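import Cfsg.Agent.Blocks.MinMax
import Cfsg.Agent.Blocks.BrauerMap
import Cfsg.Agent.Blocks.ClassSum
import Cfsg.Agent.Blocks.Osima
import Cfsg.Agent.Blocks.DefectCard
import Cfsg.Agent.CharactersDeep.AbelianQuotient
import Cfsg.Agent.H855.EB.BR
import Cfsg.Agent.S0920

/-!
# KM, the height inequality: lemmas on blocks (helper98)
-/

set_option autoImplicit false
set_option linter.unusedSectionVars false

namespace Cfsg.Agent.KM.Ht

open Cfsg Cfsg.Agent.Blocks Cfsg.Agent.Blocks.Local Cfsg.Agent.Blocks.Basic Cfsg.Agent.Blocks.ConvCentral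

variable {l : ℕ} {M : Ideal AlgInt}

theorem root_eq_one (hM : IsPModular l M) {z : ℂ} {m : ℕ} (hm : ¬ l ∣ m) (hz : z ^ m = 1)
    (h : MemLocalIdeal M (z - 1)) : z = 1 := by
  have := isPrime_of_isPModular hM
  by_contra hne
  have h0 : ∑ i ∈ Finset.range m, z ^ i = 0 := by
    have := mul_geom_sum z m
    rw [hz, sub_self] at this
    exact (mul_eq_zero.1 this).resolve_left (sub_ne_zero.2 hne)
  have hzR : MemLocalRing M z := (memLocalRing_iff_of_sub h).2 memLocalRing_one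
  have h1 : MemLocalIdeal M (∑ i ∈ Finset.range m, z ^ i - ∑ i ∈ Finset.range m, (1 : ℂ) ^ i) :=
    memLocalIdeal_sum_sub_sum fun i _ => memLocalIdeal_pow_sub_pow hzR memLocalRing_one h i
  rw [h0, zero_sub, memLocalIdeal_neg_iff] at h1
  simp only [one_pow, Finset.sum_const, Finset.card_range, nsmul_eq_mul, mul_one] at h1
  exact hm ((memLocalIdeal_natCast_iff hM m).1 h1)

theorem unit_mul [M.IsPrime] {a b : ℂ} (ha : MemLocalRing M a) (hb : MemLocalRing M b) (ha' : ¬ MemLocalIdeal M a)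
    (hb' : ¬ MemLocalIdeal M b) : ¬ MemLocalIdeal M (a * b) := fun h =>
  (memLocalIdeal_or_of_mul ha hb h).elim ha' hb'

theorem unit_inv_nat (hM : IsPModular l M) {m : ℕ} (hm : ¬ l ∣ m) : ¬ MemLocalIdeal M ((m : ℂ)⁻¹) := by
  have := isPrime_of_isPModular hM
  exact not_memLocalIdeal_inv (memLocalRing_natCast m) fun h => hm ((memLocalIdeal_natCast_iff hM m).1 h)

/-- a quotient of two numbers with the same `l`-part is a unit -/
theorem unit_div (hM : IsPModular l M) {a b : ℕ} (ha : a ≠ 0) (hb : b ≠ 0)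
    (h : a.factorization l = b.factorization l) :
    MemLocalRing M ((a : ℂ) / b) ∧ ¬ MemLocalIdeal M ((a : ℂ) / b) := by
  have := isPrime_of_isPModular hM
  refine ⟨DefectCard.memLocalRing_natDiv hM hb h.ge, fun h1 => ?_⟩
  have h2 := memLocalIdeal_mul_right h1 (DefectCard.memLocalRing_natDiv hM ha h.le)
  have ha' : (a : ℂ) ≠ 0 := Nat.cast_ne_zero.2 ha
  have hb' : (b : ℂ) ≠ 0 := Nat.cast_ne_zero.2 hb
  rw [show (a : ℂ) / b * ((b : ℂ) / a) = 1 by field_simp] at h2
  exact not_memLocalIdeal_one h2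

variable {K : Type*} [Group K] [Fintype K]

open scoped Classical in
/-- **The part of the block idempotent in a coset of the kernel of a linear character.** -/
theorem coset_idem (hM : IsPModular l M) {m : ℕ} (hm : m.Prime) (hlm : ¬ l ∣ m) (φ : K →* ℂˣ)
    (hφ : ∀ x, φ x ^ m = 1) {B : Set (IrrCharacter K)} (hB : IsPBlock M B) {ψ : IrrCharacter K} (hψ : ψ ∈ B) {x₁ : K}
    (h1 : φ x₁ ≠ 1) (h2 : ¬ MemLocalIdeal M (centralChar (ψ : K → ℂ) x₁)) {z : ℂˣ} (hz : z ^ m = 1) :
    ∑ x : K, (if φ x = z then blockCoeff B x else 0) * ((ψ : K → ℂ) x / (ψ : K → ℂ) 1) = (m : ℂ)⁻¹ := by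
  have := isPrime_of_isPModular hM
  have hm0 : (m : ℂ) ≠ 0 := Nat.cast_ne_zero.2 hm.ne_zero
  have hψ1 : (ψ : K → ℂ) 1 ≠ 0 := Basic.irr_one_ne_zero ψ.2
  -- the indicator
  have hind : ∀ x : K, (if φ x = z then (m : ℂ) else 0) = ∑ j ∈ Finset.range m, ((φ x * z⁻¹ : ℂˣ) : ℂ) ^ j := by
    intro x
    split_ifs with h
    · simp [h]
    · have hne : ((φ x * z⁻¹ : ℂˣ) : ℂ) ≠ 1 := fun e => h (mul_inv_eq_one.1 (Units.val_eq_one.1 e))
      have hp : ((φ x * z⁻¹ : ℂˣ) : ℂ) ^ m = 1 := by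
        rw [← Units.val_pow_eq_pow_val, mul_pow, hφ, inv_pow, hz, inv_one, one_mul, Units.val_one]
      have := mul_geom_sum ((φ x * z⁻¹ : ℂˣ) : ℂ) m
      rw [hp, sub_self] at this
      exact ((mul_eq_zero.1 this).resolve_left (sub_ne_zero.2 hne)).symm
  -- the twists
  let tw : ℕ → IrrCharacter K := fun j => ⟨(fun g => (((φ ^ j) g : ℂˣ) : ℂ)) * (ψ : K → ℂ),
    CharactersDeep.AbelianQuotient.isIrr_linear_mul (φ ^ j) ψ.2⟩
  have htw : ∀ j x, (tw j : K → ℂ) x = ((φ x : ℂˣ) : ℂ) ^ j * (ψ : K → ℂ) x := fun j x => by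
    show (((φ ^ j) x : ℂˣ) : ℂ) * _ = _
    rw [MonoidHom.pow_apply, Units.val_pow_eq_pow_val]
  have htw1 : ∀ j, (tw j : K → ℂ) 1 = (ψ : K → ℂ) 1 := fun j => by rw [htw]; simp
  have hnot : ∀ j, 0 < j → j < m → tw j ∉ B := by
    intro j h0 hj hmem
    have h3 := isPBlock_sameBlock hB hmem hψ x₁
    have h4 : centralChar (tw j : K → ℂ) x₁ - centralChar (ψ : K → ℂ) x₁ =
        (((φ x₁ : ℂˣ) : ℂ) ^ j - 1) * centralChar (ψ : K → ℂ) x₁ := by
      rw [centralChar_def, centralChar_def, htw1, htw]; ring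
    rw [h4] at h3
    have hp : (((φ x₁ : ℂˣ) : ℂ) ^ j) ^ m = 1 := by
      rw [← pow_mul, mul_comm, pow_mul, ← Units.val_pow_eq_pow_val, hφ, Units.val_one, one_pow]
    have hR : MemLocalRing M (((φ x₁ : ℂˣ) : ℂ) ^ j - 1) :=
      memLocalRing_sub (memLocalRing_of_isIntegral (IsIntegral.of_pow hm.pos (by rw [hp]; exact isIntegral_one)))
        memLocalRing_one
    have h5 := (memLocalIdeal_or_of_mul hR (Osima.memLocalRing_centralChar hM ψ.2 x₁) h3).resolve_right h2
    have h6 := root_eq_one hM hlm hp h5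
    have h7 : φ x₁ ^ j = 1 := Units.ext (by rw [Units.val_pow_eq_pow_val, h6, Units.val_one])
    have h8 : orderOf (φ x₁) = m := by
      have := Fact.mk hm
      exact orderOf_eq_prime (hφ x₁) h1
    exact absurd (Nat.le_of_dvd h0 (h8 ▸ orderOf_dvd_of_pow_eq_one h7)) (not_le.2 hj)
  have hsum : ∀ j, ∑ x : K, blockCoeff B x * (tw j : K → ℂ) x / (ψ : K → ℂ) 1 = if tw j ∈ B then 1 else 0 := by
    intro j
    rw [← MinMax.omega_blockCoeff B (tw j), MinMax.omega_def, lin_def, htw1, Finset.sum_div]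
  have key : (m : ℂ) * ∑ x : K, (if φ x = z then blockCoeff B x else 0) * ((ψ : K → ℂ) x / (ψ : K → ℂ) 1) =
      ∑ j ∈ Finset.range m, ((z⁻¹ : ℂˣ) : ℂ) ^ j * if tw j ∈ B then 1 else 0 := by
    rw [Finset.mul_sum]
    have e1 : ∀ x : K, (m : ℂ) * ((if φ x = z then blockCoeff B x else 0) * ((ψ : K → ℂ) x / (ψ : K → ℂ) 1)) =
        ∑ j ∈ Finset.range m, ((z⁻¹ : ℂˣ) : ℂ) ^ j * (blockCoeff B x * (tw j : K → ℂ) x / (ψ : K → ℂ) 1) := by
      intro x
      have e2 : (m : ℂ) * ((if φ x = z then blockCoeff B x else 0) * ((ψ : K → ℂ) x / (ψ : K → ℂ) 1)) =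
          (if φ x = z then (m : ℂ) else 0) * (blockCoeff B x * ((ψ : K → ℂ) x / (ψ : K → ℂ) 1)) := by
        split_ifs <;> ring
      rw [e2, hind, Finset.sum_mul]
      refine Finset.sum_congr rfl fun j _ => ?_
      rw [htw, Units.val_mul, mul_pow]; ring
    rw [Finset.sum_congr rfl fun x _ => e1 x, Finset.sum_comm]
    refine Finset.sum_congr rfl fun j _ => ?_
    rw [← Finset.mul_sum, hsum]
  rw [Finset.sum_eq_single (s := Finset.range m) 0] at key
  · have h0 : tw 0 = ψ := Subtype.ext (funext fun x => by rw [htw]; simp)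
    rw [h0, if_pos hψ, pow_zero, one_mul] at key
    exact eq_inv_of_mul_eq_one_right key
  · intro j hj h0
    rw [if_neg (hnot j (Nat.pos_of_ne_zero h0) (Finset.mem_range.1 hj)), mul_zero]
  · intro h
    exact absurd (Finset.mem_range.2 hm.pos) h

/-- a unit of the form `ω_ψ(f)` has a term which is a unit -/
theorem exists_unit_term (hM : IsPModular l M) {f ψ : K → ℂ} (hψ : IsIrrCharacter K ψ) (hf : IsClassFunction K f)
    (hfR : ∀ x, MemLocalRing M (f x)) (h : ¬ MemLocalIdeal M (∑ x : K, f x * (ψ x / ψ 1))) :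
    ∃ y, ¬ MemLocalIdeal M (f y) ∧ ¬ MemLocalIdeal M (centralChar ψ y) := by
  have := isPrime_of_isPModular hM
  obtain ⟨T, hT⟩ := ClassSum.exists_reps (G := K)
  rw [hT f (fun x => ψ x / ψ 1) hf] at h
  obtain ⟨y, -, hy⟩ := exists_not_memLocalIdeal_of_sum h
  rw [ClassSum.finsum_conj_div (irr_isClassFunction hψ)] at hy
  exact ⟨y, fun h1 => hy (memLocalIdeal_mul_right h1 (Osima.memLocalRing_centralChar hM hψ y)),
    fun h1 => hy (memLocalIdeal_mul_left (hfR y) h1)⟩

theorem card_le_of_syl [Fact l.Prime] {x y : K} {D E : Subgroup K} (hD : IsSylowCentralizer l x D) (hxy : IsConj x y)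
    (hE : IsPGroup l E) (hle : E ≤ Subgroup.centralizer ({y} : Set K)) : Nat.card E ≤ Nat.card D := by
  obtain ⟨P, hP, hEP⟩ := exists_isSylowCentralizer hE hle
  obtain ⟨g, -, rfl⟩ := isSylowCentralizer_conj_of_isConj hD hP hxy
  refine (Subgroup.card_le_of_le hEP).trans (le_of_eq ?_)
  exact Subgroup.card_map_of_injective (MulAut.conj g).injective

/-- min-max: a criterion for a defect group -/
theorem defect_of (hM : IsPModular l M) {B : Set (IrrCharacter K)} (hB : IsPBlock M B) {ψ : IrrCharacter K}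
    (hψ : ψ ∈ B) {D : Subgroup K} {x c : K} (hx : IsSylowCentralizer l x D)
    (hω : ¬ MemLocalIdeal M (centralChar (ψ : K → ℂ) x)) (hc : D ≤ Subgroup.centralizer ({c} : Set K))
    (ha : ¬ MemLocalIdeal M (blockCoeff B c)) : IsDefectGroup l M B D := by
  have := isPrime_of_isPModular hM
  have := Fact.mk hM.1
  obtain ⟨g, hg⟩ := Osima.exists_isDefectClass hM hB
  have hDp := isPGroup_of_isSylowCentralizer hx
  obtain ⟨g', hgg', hle⟩ := MinMax.exists_isConj_of_blockCoeff hM hB ⟨ψ, hψ, hg.2.2 ψ hψ⟩ ha hDp hc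
  have hg' := isDefectClass_isConj hgg' hg
  obtain ⟨E, hE, hDE⟩ := exists_isSylowCentralizer hDp hle
  obtain ⟨x', hxx', hle'⟩ := MinMax.exists_isConj_of_blockCoeff hM hB ⟨ψ, hψ, hω⟩ hg'.2.1
    (isPGroup_of_isSylowCentralizer hE) (le_centralizer_of_isSylowCentralizer hE)
  have h1 := card_le_of_syl hx hxx' (isPGroup_of_isSylowCentralizer hE) hle'
  have h2 : D = E := Subgroup.eq_of_le_of_card_ge hDE h1
  exact isDefectGroup_iff.2 ⟨g', hg', h2 ▸ hE⟩

open scoped Classical in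
/-- a normal subgroup without fixed points of an element `x` with `ψ x ≠ 0` lies in the kernel -/
theorem ker_of_fpf {ψ : K → ℂ} (hψ : IsIrrCharacter K ψ) (S : Subgroup K) [hS : S.Normal] {x : K}
    (hx : ∀ s ∈ S, x * s = s * x → s = 1) (h0 : ψ x ≠ 0) (g : K) {s : K} (hs : s ∈ S) : ψ (g * s) = ψ g := by
  have hψ1 : ψ 1 ≠ 0 := Basic.irr_one_ne_zero hψ
  -- the sum over a coset
  let e : K → ℂ := fun y => if y ∈ S then 1 else 0
  have he : IsClassFunction K e := by
    intro a b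
    show (if _ then _ else _) = (if _ then _ else _)
    congr 1
    exact propext ⟨fun h => by simpa [mul_assoc] using hS.conj_mem _ h b⁻¹, fun h => hS.conj_mem _ h b⟩
  have hsum : ∀ a : K, (∑ y : K, e y * ψ (y * a)) * ψ 1 = lin ψ e * ψ a := by
    intro a
    have h1 := lin_conv hψ (f := e) (f' := fun y => if y = a then 1 else 0) he
    have h2 : lin ψ (fun y => if y = a then (1 : ℂ) else 0) = ψ a := by simp [lin_def]
    rw [h2] at h1
    rw [← h1, lin_def]
    congr 1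
    have h3 : ∀ y : K, conv e (fun y => if y = a then (1 : ℂ) else 0) y = e (y * a⁻¹) := by
      intro y
      rw [conv_apply, Finset.sum_eq_single (y * a⁻¹)]
      · simp
      · intro b _ hb
        rw [if_neg, mul_zero]
        intro h
        exact hb (by rw [← h]; group)
      · simp
    simp only [h3]
    exact Fintype.sum_equiv (Equiv.mulRight a) _ _ fun y => by simp
  -- `x S` is a class
  have hcl : ∀ t ∈ S, ψ (t * x) = ψ x := by
    let c : S → S := fun u => ⟨u * (x * (u : K)⁻¹ * x⁻¹), S.mul_mem u.2 (hS.conj_mem _ (S.inv_mem u.2) x)⟩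
    have hinj : Function.Injective c := by
      intro u v huv
      have h1 : (u : K) * (x * (u : K)⁻¹ * x⁻¹) = v * (x * (v : K)⁻¹ * x⁻¹) := congrArg Subtype.val huv
      have h2 : ((v : K)⁻¹ * u) = 1 := by
        refine hx _ (S.mul_mem (S.inv_mem v.2) u.2) ?_
        calc x * ((v : K)⁻¹ * u) = (v : K)⁻¹ * (v * (x * (v : K)⁻¹ * x⁻¹)) * x * u := by group
          _ = (v : K)⁻¹ * (u * (x * (u : K)⁻¹ * x⁻¹)) * x * u := by rw [h1]
          _ = _ := by group
      exact Subtype.ext (inv_mul_eq_one.1 h2).symm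
    intro t ht
    obtain ⟨u, hu⟩ := Finite.surjective_of_injective hinj ⟨t, ht⟩
    have h1 : (u : K) * (x * (u : K)⁻¹ * x⁻¹) = t := congrArg Subtype.val hu
    rw [← h1, ← Basic.irr_conj hψ x u]
    congr 1
    group
  have hω : lin ψ e ≠ 0 := by
    intro h
    have h1 := hsum x
    rw [h, zero_mul] at h1
    have h2 : ∑ y : K, e y * ψ (y * x) = (∑ y : K, e y) * ψ x := by
      rw [Finset.sum_mul]
      refine Finset.sum_congr rfl fun y _ => ?_
      by_cases hy : y ∈ S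
      · rw [hcl y hy]
      · simp [e, hy]
    have h3 : (∑ y : K, e y) ≠ 0 := by
      simp only [e, Finset.sum_boole]
      exact Nat.cast_ne_zero.2 (Finset.card_pos.2 ⟨1, by simp [S.one_mem]⟩).ne'
    rw [h2] at h1
    exact mul_ne_zero (mul_ne_zero h3 h0) hψ1 h1
  have h1 := hsum (s * g)
  have h2 : ∑ y : K, e y * ψ (y * (s * g)) = ∑ y : K, e y * ψ (y * g) := by
    refine Fintype.sum_equiv (Equiv.mulRight s) _ _ fun y => ?_
    simp only [Equiv.coe_mulRight, mul_assoc, e]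
    congr 2
    exact propext ⟨fun h => S.mul_mem h hs, fun h => by simpa using S.mul_mem h (S.inv_mem hs)⟩
  rw [h2, hsum g] at h1
  rw [Basic.irr_mul_comm hψ]
  exact (mul_left_cancel₀ hω h1).symm

end Cfsg.Agent.KM.Ht
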