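import Cfsg.Agent.KM.Ht.BlkA
import Cfsg.Agent.Blocks.GreenReduce

/-!
# KM, the height inequality: a character which does not vanish on a coset `y S` (helper98)
-/

set_option autoImplicit false
set_option linter.unusedSectionVars false

namespace Cfsg.Agent.KM.Ht

open Cfsg Cfsg.Agent.Blocks Cfsg.Agent.Blocks.Local Cfsg.Agent.Blocks.Basic Cfsg.Agent.Blocks.ConvCentral

variable {l : ℕ} {M : Ideal AlgInt} {K : Type*} [Group K] [Fintype K]

theorem fact_index_of_syl [hl : Fact l.Prime] {x : K} {D : Subgroup K} (h : IsSylowCentralizer l x D) :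
    (Subgroup.centralizer ({x} : Set K)).index.factorization l + (Nat.card D).factorization l =
      (Nat.card K).factorization l := by
  obtain ⟨P, rfl⟩ := h
  rw [Subgroup.card_map_of_injective (Subgroup.subtype_injective _), Sylow.card_eq_multiplicity,
    ← (Subgroup.centralizer ({x} : Set K)).index_mul_card,
    Nat.factorization_mul Subgroup.index_ne_zero_of_finite Nat.card_pos.ne', Finsupp.add_apply,
    Nat.factorization_pow, Finsupp.smul_apply, hl.out.factorization_self, smul_eq_mul, mul_one]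

/-- a class with a unit coefficient which is centralised by a defect group -/
theorem syl_of_coeff (hM : IsPModular l M) {B : Set (IrrCharacter K)} (hB : IsPBlock M B) {D : Subgroup K}
    (hD : IsDefectGroup l M B D) {w : K} (ha : ¬ MemLocalIdeal M (blockCoeff B w))
    (hw : D ≤ Subgroup.centralizer ({w} : Set K)) : IsSylowCentralizer l w D := by
  have := isPrime_of_isPModular hM
  have := Fact.mk hM.1
  obtain ⟨g, hg, hgD⟩ := isDefectGroup_iff.1 hD
  obtain ⟨ψ, hψ⟩ := isPBlock_nonempty hB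
  refine (isSylowCentralizer_iff l w D).2 ⟨isPGroup_of_isSylowCentralizer hgD, hw, fun Q hQ hQw hDQ => ?_⟩
  obtain ⟨x, hx, hle⟩ := MinMax.exists_isConj_of_blockCoeff hM hB ⟨ψ, hψ, hg.2.2 ψ hψ⟩ ha hQ hQw
  exact (Subgroup.eq_of_le_of_card_ge hDQ (card_le_of_syl hgD hx hQ hle)).symm

/-- from the normaliser to the group -/
theorem syl_of_normalizer [Fact l.Prime] {D : Subgroup K} (hD : IsPGroup l D)
    {w : Subgroup.normalizer (D : Set K)}
    (h : IsSylowCentralizer l w (D.subgroupOf (Subgroup.normalizer (D : Set K)))) : IsSylowCentralizer l (w : K) D := by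
  obtain ⟨-, h2, h3⟩ := (isSylowCentralizer_iff l w _).1 h
  refine (isSylowCentralizer_iff l (w : K) D).2 ⟨hD, fun d hd => ?_, fun Q hQ hQw hDQ => ?_⟩
  · have := h2 (show (⟨d, Subgroup.le_normalizer hd⟩ : Subgroup.normalizer (D : Set K)) ∈ D.subgroupOf _ from hd)
    rw [Subgroup.mem_centralizer_singleton_iff] at this ⊢
    exact congrArg Subtype.val this
  · refine GreenReduce.eq_of_normalizer_inf_le hQ hDQ fun x hx => ?_
    have h4 := h3 (Q.subgroupOf _) (hQ.comap_subtype) (fun u hu => by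
      have := hQw hu
      rw [Subgroup.mem_centralizer_singleton_iff] at this ⊢
      exact Subtype.ext this) (fun u hu => hDQ hu)
    have h5 : (⟨x, hx.2⟩ : Subgroup.normalizer (D : Set K)) ∈ Q.subgroupOf _ := hx.1
    rw [h4] at h5
    exact h5

/-- the Brauer map on a class with the defect group `D` -/
theorem brauer_eq [Fact l.Prime] {D : Subgroup K} {w : Subgroup.normalizer (D : Set K)}
    (h : IsSylowCentralizer l (w : K) D) {ξ : Subgroup.normalizer (D : Set K) → ℂ}
    (hξ : IsIrrCharacter _ ξ) : brauerCentralChar D (Subgroup.normalizer (D : Set K)) ξ w = centralChar ξ w := by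
  rw [brauerCentralChar_def, ← ClassSum.finsum_conj_div (irr_isClassFunction hξ)]
  have hw : (w : K) ∈ Subgroup.centralizer (D : Set K) := fun d hd =>
    (Subgroup.mem_centralizer_singleton_iff.1 (le_centralizer_of_isSylowCentralizer h hd))
  have : {u : Subgroup.normalizer (D : Set K) | IsConj (w : K) (u : K) ∧ (u : K) ∈ Subgroup.centralizer (D : Set K)} =
      {u | IsConj w u} := by
    ext u
    constructor
    · rintro ⟨h1, h2⟩
      have hle : D ≤ Subgroup.centralizer ({(u : K)} : Set K) := fun d hd =>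
        Subgroup.mem_centralizer_singleton_iff.2 (h2 d hd)
      obtain ⟨E, hE, hDE⟩ := exists_isSylowCentralizer (isPGroup_of_isSylowCentralizer h) hle
      have h3 : D = E := Subgroup.eq_of_le_of_card_ge hDE
        (card_le_of_syl h h1 (isPGroup_of_isSylowCentralizer hE) (le_centralizer_of_isSylowCentralizer hE))
      obtain ⟨x, hx, hxD⟩ := isSylowCentralizer_conj_of_isConj (E := D) h ((congrArg (IsSylowCentralizer l (u : K)) h3).mpr hE) h1
      have hxN : x ∈ Subgroup.normalizer (D : Set K) := by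
        refine Subgroup.mem_normalizer_fintype fun d hd => ?_
        have : x * d * x⁻¹ ∈ D.map (MulAut.conj x).toMonoidHom := ⟨d, hd, rfl⟩
        rwa [← hxD] at this
      exact isConj_iff.2 ⟨⟨x, hxN⟩, Subtype.ext hx⟩
    · intro h1
      obtain ⟨x, rfl⟩ := isConj_iff.1 h1
      exact ⟨isConj_iff.2 ⟨x, rfl⟩, BrauerMap.conj_mem_centralizer x.2 hw⟩
  rw [this]

open scoped Classical in
/-- **Lemma Z.** -/
theorem lemZ (hM : IsPModular l M) {m : ℕ} (hm : m.Prime) (hlm : ¬ l ∣ m) (φ : K →* ℂˣ) (hφ : ∀ x, φ x ^ m = 1)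
    {B : Set (IrrCharacter K)} (hB : IsPBlock M B) {χ : IrrCharacter K} (hχ : χ ∈ B) {D : Subgroup K}
    (hD : IsDefectGroup l M B D) {x₀ : K} (h1 : φ x₀ ≠ 1) (h2 : ¬ MemLocalIdeal M (centralChar (χ : K → ℂ) x₀))
    (S : Subgroup K) (hS0 : ∀ x, IsConj x₀ x → ∀ s ∈ S, x * s = s * x → s = 1)
    (hSN : ∀ g ∈ Subgroup.normalizer (D : Set K), ∀ s ∈ S, g * s * g⁻¹ ∈ S)
    (hSD : S ≤ Subgroup.centralizer (D : Set K))
    (hSy : ∀ y, φ y = 1 → y ∈ Subgroup.centralizer (D : Set K) → ¬ l ∣ orderOf y → ∀ s ∈ S, y * s = s * y) :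
    ∃ y, φ y = 1 ∧ (∀ s ∈ S, y * s = s * y) ∧ ∀ s ∈ S, (χ : K → ℂ) (y * s) ≠ 0 := by
  have := isPrime_of_isPModular hM
  have := Fact.mk hM.1
  have hDp := isPGroup_of_isDefectGroup hD
  let N := Subgroup.normalizer (D : Set K)
  obtain ⟨β, hβ, hβD, hind⟩ : ∃ β : Set (IrrCharacter N), IsPBlock M β ∧ IsDefectGroup l M β (D.subgroupOf N) ∧
      IsInducedBlock M N β B := ((S0920.result l M hM D hDp).2 B hB hD).exists
  have := Fintype.ofFinite N
  obtain ⟨ξ, hξ⟩ := isPBlock_nonempty hβ
  have hSle : S ≤ N := hSD.trans (Subgroup.centralizer_le_normalizer _)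
  obtain ⟨x₁, hx₁, hω₁⟩ := exists_isConj_of_inducedCentralChar N ξ.2 (g := x₀)
    (fun h => h2 ((memLocalIdeal_iff_of_sub (hind.2.2 ξ hξ χ hχ x₀)).1 h))
  have hφ1 : φ x₁ ≠ 1 := by
    obtain ⟨c, hc⟩ := isConj_iff.1 hx₁
    rw [← hc, map_mul, map_mul, map_inv, mul_inv_cancel_comm]
    exact h1
  have hnS : (S.subgroupOf N).Normal := ⟨fun s hs g => hSN g g.2 s hs⟩
  have hker : ∀ ψ ∈ β, ∀ (g s : N), (s : K) ∈ S → (ψ : N → ℂ) (g * s) = (ψ : N → ℂ) g := by
    intro ψ hψ g s hs
    refine ker_of_fpf ψ.2 (S.subgroupOf N) (x := x₁) (fun t ht e => ?_) (fun h0 => ?_) g hs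
    · exact Subtype.ext (hS0 x₁ hx₁ t ht (congrArg Subtype.val e))
    · apply hω₁
      rw [centralChar_memLocalIdeal_iff hβ hξ hψ, centralChar_def, h0, mul_zero, zero_div]
      exact memLocalIdeal_zero
  have hcoef : ∀ g s : N, (s : K) ∈ S → blockCoeff β (g * s) = blockCoeff β g := by
    intro g s hs
    rw [Basic.blockCoeff_def, Basic.blockCoeff_def]
    congr 1
    exact finsum_mem_congr rfl fun ψ hψ => by rw [hker ψ hψ g s hs]
  have hT := coset_idem hM hm hlm (φ.comp N.subtype) (fun x => hφ x) hβ hξ (x₁ := x₁) hφ1 hω₁ (one_pow m)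
  obtain ⟨y, hy1, hy2⟩ := exists_unit_term hM ξ.2
    (f := fun x : N => if (φ.comp N.subtype) x = 1 then blockCoeff β x else 0)
    (fun a b => by
      show (if _ then _ else _) = (if _ then _ else _)
      rw [map_mul, map_mul, map_inv, mul_inv_cancel_comm, MinMax.isClassFunction_blockCoeff β a b])
    (fun x => by
      show MemLocalRing M (if _ then _ else _)
      split_ifs
      · exact Osima.memLocalRing_blockCoeff hM hβ x
      · exact memLocalRing_zero)
    (by rw [hT]; exact unit_inv_nat hM hlm)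
  have hφy : φ y = 1 := by
    by_contra h
    apply hy1
    show MemLocalIdeal M (if _ then _ else _)
    rw [if_neg (by exact h)]
    exact memLocalIdeal_zero
  have hay : ¬ MemLocalIdeal M (blockCoeff β y) := by
    intro h
    apply hy1
    show MemLocalIdeal M (if _ then _ else _)
    rw [if_pos (by exact hφy)]
    exact h
  have hnD : (D.subgroupOf N).Normal := Subgroup.normal_subgroupOf_of_le_normalizer le_rfl
  have hyC : (y : K) ∈ Subgroup.centralizer (D : Set K) := by
    by_contra h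
    refine hy2 (BrauerMap.memLocalIdeal_centralChar_of_notMem hM ξ.2 (D.subgroupOf N) hDp.comap_subtype y
      fun h' => h fun d hd => ?_)
    exact congrArg Subtype.val (h' ⟨d, Subgroup.le_normalizer hd⟩ hd)
  have hyr : ¬ l ∣ orderOf (y : K) := by
    intro h
    apply hay
    rw [H855.EB.blockCoeff_eq_zero hM hβ (g := y) (fun h' => h' (by rwa [Subgroup.orderOf_coe] at h))]
    exact memLocalIdeal_zero
  have hsyl : ∀ s : N, (s : K) ∈ S → IsSylowCentralizer l (y * s) (D.subgroupOf N) := by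
    intro s hs
    refine syl_of_coeff hM hβ hβD (by rwa [hcoef y s hs]) fun d hd => ?_
    rw [Subgroup.mem_centralizer_singleton_iff]
    apply Subtype.ext
    show (d : K) * (y * s) = y * s * d
    rw [← mul_assoc, hyC d hd, mul_assoc, hSD hs d hd, mul_assoc]
  refine ⟨y, hφy, hSy y hφy hyC hyr, fun s hs h0 => ?_⟩
  let s' : N := ⟨s, hSle hs⟩
  have e1 := fact_index_of_syl (hsyl s' hs)
  have e2 := fact_index_of_syl (hsyl 1 S.one_mem)
  rw [mul_one] at e2
  have hu := unit_div hM (a := (Subgroup.centralizer ({y * s'} : Set N)).index)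
    (b := (Subgroup.centralizer ({y} : Set N)).index) Subgroup.index_ne_zero_of_finite
    Subgroup.index_ne_zero_of_finite (by omega)
  have hω : ¬ MemLocalIdeal M (centralChar (ξ : N → ℂ) (y * s')) := by
    have e3 : centralChar (ξ : N → ℂ) (y * s') = (((Subgroup.centralizer ({y * s'} : Set N)).index : ℂ) /
        ((Subgroup.centralizer ({y} : Set N)).index : ℂ)) * centralChar (ξ : N → ℂ) y := by
      have : ((Subgroup.centralizer ({y} : Set N)).index : ℂ) ≠ 0 :=
        Nat.cast_ne_zero.2 Subgroup.index_ne_zero_of_finite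
      rw [centralChar_def, centralChar_def, hker ξ hξ y s' hs]
      field_simp
    rw [e3]
    exact unit_mul hu.1 (Osima.memLocalRing_centralChar hM ξ.2 y) hu.2 hy2
  have hsy := syl_of_normalizer hDp (hsyl s' hs)
  have e4 := brauer_eq hsy ξ.2
  have e5 := BrauerMap.inducedCentralChar_sub_brauerCentralChar hM hDp Subgroup.le_normalizer le_rfl ξ.2
    ((y * s' : N) : K)
  have e6 := hind.2.2 ξ hξ χ hχ ((y * s' : N) : K)
  rw [e4] at e5
  apply hω
  rw [← memLocalIdeal_iff_of_sub e5, memLocalIdeal_iff_of_sub e6, centralChar_def,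
    show (χ : K → ℂ) ((y * s' : N) : K) = 0 from h0, mul_zero, zero_div]
  exact memLocalIdeal_zero

end Cfsg.Agent.KM.Ht
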