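import Cfsg.Agent.KM.Ht.BlkB
import Cfsg.Agent.H594.CosetSum

/-!
# KM, the height inequality: defect groups and the Glauberman correspondence (helper98)
-/

set_option autoImplicit false
set_option linter.unusedSectionVars false

namespace Cfsg.Agent.KM.Ht

open Cfsg Cfsg.Agent.Blocks Cfsg.Agent.Blocks.Local Cfsg.Agent.Blocks.Basic Cfsg.Agent.Blocks.ConvCentral

variable {l : ℕ} {M : Ideal AlgInt} {Γ H : Type*} [Group Γ] [Fintype Γ] [Group H] [Fintype H]

/-- `Γ = K ⟨σ⟩` with `K = ker φ` of order prime to the order `m` of `σ`, and `H = C_K(σ)` -/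
structure Gl (m : ℕ) (φ : Γ →* ℂˣ) (σ : Γ) (ι : H →* Γ) : Prop where
  prime : m.Prime
  pow : ∀ x, φ x ^ m = 1
  ne : φ σ ≠ 1
  ord : σ ^ m = 1
  cop : (Nat.card φ.ker).Coprime m
  inj : Function.Injective ι
  rng : ∀ x, x ∈ ι.range ↔ φ x = 1 ∧ x * σ = σ * x

variable {m : ℕ} {φ : Γ →* ℂˣ} {σ : Γ} {ι : H →* Γ}

namespace Gl

variable (h : Gl m φ σ ι)
include h

theorem orderOf_eq : orderOf σ = m := by
  have := Fact.mk h.prime
  exact orderOf_eq_prime h.ord fun e => h.ne (by rw [e, map_one])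

theorem card_zp : Nat.card (Subgroup.zpowers σ) = m := by rw [Nat.card_zpowers, h.orderOf_eq]

theorem cop' : (Nat.card φ.ker).Coprime (Nat.card (Subgroup.zpowers σ)) := by rw [h.card_zp]; exact h.cop

theorem phi_iota (c : H) : φ (ι c) = 1 := ((h.rng _).1 ⟨c, rfl⟩).1

theorem comm (c : H) : ι c * σ = σ * ι c := ((h.rng _).1 ⟨c, rfl⟩).2

theorem dec (g : Γ) : ∃ k ∈ φ.ker, ∃ j : ℕ, g = k * σ ^ j := by
  have := Fact.mk h.prime
  have : NeZero m := ⟨h.prime.ne_zero⟩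
  have h1 : IsPrimitiveRoot ((φ σ : ℂˣ) : ℂ) m := by
    rw [IsPrimitiveRoot.coe_units_iff, ← orderOf_eq_prime (h.pow σ) h.ne]
    exact IsPrimitiveRoot.orderOf _
  obtain ⟨j, -, hj⟩ := h1.eq_pow_of_pow_eq_one (ξ := ((φ g : ℂˣ) : ℂ))
    (by rw [← Units.val_pow_eq_pow_val, h.pow, Units.val_one])
  refine ⟨g * (σ ^ j)⁻¹, ?_, j, by group⟩
  rw [MonoidHom.mem_ker, map_mul, map_inv, map_pow, mul_inv_eq_one]
  exact Units.ext (by rw [Units.val_pow_eq_pow_val, hj])

theorem rng_eq : ι.range = φ.ker ⊓ Subgroup.centralizer ((Subgroup.zpowers σ : Subgroup Γ) : Set Γ) := by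
  ext x
  rw [h.rng]
  exact ⟨fun e => ⟨e.1, H594.CosetSum.mem_centralizer_zpowers e.2⟩,
    fun e => ⟨e.1, (e.2 σ (Subgroup.mem_zpowers σ)).symm⟩⟩

theorem isConj_iff' {c c' : H} : IsConj (ι c * σ) (ι c' * σ) ↔ IsConj c c' := by
  constructor
  · intro e
    obtain ⟨g, hg⟩ := isConj_iff.1 e
    obtain ⟨k, hk, j, rfl⟩ := h.dec g
    have h1 : σ ^ j * (ι c * σ) * (σ ^ j)⁻¹ = ι c * σ := by
      have : Commute (σ ^ j) (ι c * σ) := ((show Commute σ (ι c) from (h.comm c).symm).mul_right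
        (Commute.refl σ)).pow_left j
      rw [this.eq]; group
    have h2 : k * (ι c * σ) * k⁻¹ = 1 * (ι c' * σ) * 1⁻¹ := by
      rw [← h1, one_mul, inv_one, mul_one, ← hg]; group
    have h3 := H594.CosetSum.mem_of_conj_eq h.cop' rfl hk φ.ker.one_mem (h.rng_eq ▸ ⟨c, rfl⟩) (h.rng_eq ▸ ⟨c', rfl⟩) h2
    rw [← h.rng_eq, mul_one, inv_mem_iff] at h3
    obtain ⟨a, rfl⟩ := h3
    refine isConj_iff.2 ⟨a, h.inj ?_⟩
    rw [one_mul, inv_one, mul_one] at h2
    have h4 := h.comm a⁻¹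
    rw [map_inv] at h4
    rw [map_mul, map_mul, map_inv]
    apply mul_right_cancel (b := σ)
    rw [← h2, mul_assoc (ι a * ι c), h4]
    group
  · intro e
    obtain ⟨a, rfl⟩ := isConj_iff.1 e
    refine isConj_iff.2 ⟨ι a, ?_⟩
    have h4 := h.comm a⁻¹
    rw [map_inv] at h4
    rw [map_mul, map_mul, map_inv, mul_assoc (ι a * ι c), h4]
    group

open scoped Classical in
/-- sums over the coset `K σ` -/
theorem sum_coset (F : Γ → ℂ) (hF : IsClassFunction Γ F) :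
    ∑ x : Γ, (if φ x = φ σ then F x else 0) = ((Nat.card φ.ker : ℂ) / Nat.card H) * ∑ c : H, F (ι c * σ) := by
  have h1 := H594.CosetSum.coset_sum (G := φ.ker) (S := Subgroup.zpowers σ) (C := ι.range)
    (fun s _ g hg => (MonoidHom.normal_ker φ).conj_mem g hg s) h.cop' h.rng_eq rfl F (fun x _ y => hF y x)
  have h2 : ∑ c : ι.range, F (c * σ) = ∑ c : H, F (ι c * σ) :=
    (Fintype.sum_equiv (MonoidHom.ofInjective h.inj).toEquiv _ _ fun c => rfl).symm
  have h3 : Nat.card ι.range = Nat.card H := (Nat.card_congr (MonoidHom.ofInjective h.inj).toEquiv).symm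
  have h4 : ∑ x : Γ, (if φ x = φ σ then F x else 0) = ∑ g : φ.ker, F (g * σ) := by
    rw [← Fintype.sum_equiv (Equiv.mulRight σ) (fun x => if φ x = 1 then F (x * σ) else 0) _ fun x => by simp,
      ← Finset.sum_filter]
    exact Finset.sum_subtype _ (fun x => by simp) fun x => F (x * σ)
  have hK : (Nat.card φ.ker : ℂ) ≠ 0 := Nat.cast_ne_zero.2 Nat.card_pos.ne'
  rw [h2, h3] at h1
  rw [h4, div_eq_mul_inv, mul_assoc, ← h1, mul_inv_cancel_left₀ hK]

/-- the central characters on the coset -/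
theorem central_eq {χh : Γ → ℂ} (hχh : IsIrrCharacter Γ χh) {χ : H → ℂ} (hχ : IsIrrCharacter H χ) {ε : ℂ}
    (hv : ∀ c, χh (ι c * σ) = ε * χ c) (c : H) :
    centralChar χh (ι c * σ) = ε * ((Nat.card φ.ker * χ 1) / (Nat.card H * χh 1)) * centralChar χ c := by
  classical
  have h1 := h.sum_coset (fun x => (classInd (ι c * σ) x : ℂ) * χh x) fun a b => by
    show (classInd _ _ : ℂ) * χh _ = (classInd _ _ : ℂ) * χh _
    rw [Basic.irr_conj hχh]
    congr 1
    exact isClassFunction_classInd (ι c * σ) a b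
  have h2 : ∀ x, (if φ x = φ σ then (classInd (ι c * σ) x : ℂ) * χh x else 0) = (classInd (ι c * σ) x : ℂ) * χh x := by
    intro x
    split_ifs with e
    · rfl
    · rw [classInd_of_not, Int.cast_zero, zero_mul]
      intro e'
      obtain ⟨g, rfl⟩ := isConj_iff.1 e'
      apply e
      rw [map_mul, map_mul, map_inv, mul_inv_cancel_comm, map_mul, h.phi_iota, one_mul]
  have h3 : ∀ c', (classInd (ι c * σ) (ι c' * σ) : ℂ) * χh (ι c' * σ) = ε * ((classInd c c' : ℂ) * χ c') := by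
    intro c'
    rw [hv]
    by_cases e : IsConj c c'
    · rw [classInd_of_isConj e, classInd_of_isConj (h.isConj_iff'.2 e)]; ring
    · rw [classInd_of_not e, classInd_of_not (fun e' => e (h.isConj_iff'.1 e'))]; simp
  simp only [h2, h3] at h1
  rw [← Finset.mul_sum] at h1
  have hχ1 := Basic.irr_one_ne_zero hχ
  rw [← lin_classInd (irr_isClassFunction hχh), ← lin_classInd (irr_isClassFunction hχ), lin_def, lin_def, h1]
  field_simp

theorem cent_le {c : H} {x : Γ} (hx : φ x = 1) (e : x * (ι c * σ) = ι c * σ * x) : ∃ a, ι a = x ∧ a * c = c * a := by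
  obtain ⟨k, hk0, hk1⟩ := H594.CosetSum.exists_exp h.cop'
  have h1 := H594.CosetSum.pow_mul_eq hk0 hk1 (show ι c ∈ φ.ker from h.phi_iota c) (Subgroup.mem_zpowers σ) (h.comm c)
  have h2 : x * σ = σ * x := by
    rw [← h1]
    exact ((show Commute x (ι c * σ) from e).pow_right k).eq
  obtain ⟨a, rfl⟩ := (h.rng x).2 ⟨hx, h2⟩
  refine ⟨a, rfl, h.inj ?_⟩
  rw [map_mul, map_mul]
  apply mul_right_cancel (b := σ)
  rw [mul_assoc, e, mul_assoc, ← h2, mul_assoc]

theorem syl (hl : l.Prime) (hlm : ¬ l ∣ m) {c : H} {D : Subgroup H} (hD : IsSylowCentralizer l c D) :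
    IsSylowCentralizer l (ι c * σ) (D.map ι) := by
  obtain ⟨h1, h2, h3⟩ := (isSylowCentralizer_iff l c D).1 hD
  refine (isSylowCentralizer_iff l _ _).2 ⟨h1.map ι, ?_, fun Q hQ hQc hDQ => ?_⟩
  · rintro _ ⟨d, hd, rfl⟩
    have h4 := Subgroup.mem_centralizer_singleton_iff.1 (h2 hd)
    rw [Subgroup.mem_centralizer_singleton_iff, ← mul_assoc, ← map_mul, h4, map_mul, mul_assoc, h.comm, mul_assoc]
  · have hQr : ∀ x ∈ Q, ∃ a, ι a = x ∧ a * c = c * a := by
      intro x hx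
      refine h.cent_le ?_ (Subgroup.mem_centralizer_singleton_iff.1 (hQc hx))
      obtain ⟨n, hn⟩ := hQ ⟨x, hx⟩
      have h5 : φ x ^ l ^ n = 1 := by
        rw [← map_pow, show x ^ l ^ n = 1 from congrArg Subtype.val hn, map_one]
      have h6 : (l ^ n).Coprime m := ((Nat.Prime.coprime_iff_not_dvd hl).2 hlm).pow_left n
      rw [← orderOf_eq_one_iff]
      exact Nat.eq_one_of_dvd_coprimes h6 (orderOf_dvd_of_pow_eq_one h5) (orderOf_dvd_of_pow_eq_one (h.pow x))
    have h4 := h3 (Q.comap ι) (hQ.comap_of_injective ι h.inj) (fun a ha => by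
      obtain ⟨b, hb, hbc⟩ := hQr _ ha
      rw [Subgroup.mem_centralizer_singleton_iff, ← h.inj hb]
      exact hbc) (Subgroup.map_le_iff_le_comap.1 hDQ)
    refine le_antisymm (fun x hx => ?_) hDQ
    obtain ⟨a, rfl, -⟩ := hQr x hx
    exact ⟨a, h4 ▸ hx, rfl⟩

open scoped Classical in
/-- **Core A.** -/
theorem core (hM : IsPModular l M) (hlm : ¬ l ∣ m) (χh : IrrCharacter Γ) (χ : IrrCharacter H) {ε : ℂ}
    (hε : ε = 1 ∨ ε = -1) (hv : ∀ c, (χh : Γ → ℂ) (ι c * σ) = ε * (χ : H → ℂ) c)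
    (hν : (Nat.card φ.ker).factorization l + (charDegree (χ : H → ℂ)).factorization l =
      (Nat.card H).factorization l + (charDegree (χh : Γ → ℂ)).factorization l)
    {B : Set (IrrCharacter H)} (hB : IsPBlock M B) (hχ : χ ∈ B) {D : Subgroup H} (hD : IsDefectGroup l M B D)
    (S : Subgroup Γ) (hSK : S ≤ φ.ker) (hSc : (Nat.card S).Coprime (Nat.card H))
    (hSN : ∀ g ∈ Subgroup.normalizer (D.map ι : Set Γ), ∀ s ∈ S, g * s * g⁻¹ ∈ S)
    (hSD : S ≤ Subgroup.centralizer (D.map ι : Set Γ))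
    (hSy : ∀ y, φ y = 1 → y ∈ Subgroup.centralizer (D.map ι : Set Γ) → ¬ l ∣ orderOf y → ∀ s ∈ S, y * s = s * y) :
    ∃ y, φ y = 1 ∧ (∀ s ∈ S, y * s = s * y) ∧ ∀ s ∈ S, (χh : Γ → ℂ) (y * s) ≠ 0 := by
  have := isPrime_of_isPModular hM
  have := Fact.mk hM.1
  obtain ⟨y₀, hy₀, hsyl⟩ := isDefectGroup_iff.1 hD
  have hχ1 := Basic.irr_one_ne_zero χ.2
  have hχh1 := Basic.irr_one_ne_zero χh.2
  have hK : (Nat.card φ.ker : ℂ) ≠ 0 := Nat.cast_ne_zero.2 Nat.card_pos.ne'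
  have hH : (Nat.card H : ℂ) ≠ 0 := Nat.cast_ne_zero.2 Nat.card_pos.ne'
  have hεR : MemLocalRing M ε := by
    rcases hε with rfl | rfl
    · exact memLocalRing_one
    · exact memLocalRing_neg memLocalRing_one
  have hεu : ¬ MemLocalIdeal M ε := by
    rcases hε with rfl | rfl
    · exact not_memLocalIdeal_one
    · rw [memLocalIdeal_neg_iff]; exact not_memLocalIdeal_one
  have hκ : MemLocalRing M ((Nat.card φ.ker * (χ : H → ℂ) 1) / (Nat.card H * (χh : Γ → ℂ) 1)) ∧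
      ¬ MemLocalIdeal M ((Nat.card φ.ker * (χ : H → ℂ) 1) / (Nat.card H * (χh : Γ → ℂ) 1)) := by
    rw [irr_one_eq_charDegree χ.2, irr_one_eq_charDegree χh.2, ← Nat.cast_mul, ← Nat.cast_mul]
    have e1 := (charDegree_pos χ.2).ne'
    have e2 := (charDegree_pos χh.2).ne'
    refine unit_div hM (mul_ne_zero Nat.card_pos.ne' e1) (mul_ne_zero Nat.card_pos.ne' e2) ?_
    rw [Nat.factorization_mul Nat.card_pos.ne' e1, Nat.factorization_mul Nat.card_pos.ne' e2]
    exact hν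
  have hεκ := unit_mul hεR hκ.1 hεu hκ.2
  have hω₀ : ¬ MemLocalIdeal M (centralChar (χh : Γ → ℂ) (ι y₀ * σ)) := by
    rw [h.central_eq χh.2 χ.2 hv]
    exact unit_mul (memLocalRing_mul hεR hκ.1) (Osima.memLocalRing_centralChar hM χ.2 y₀) hεκ (hy₀.2.2 χ hχ)
  have hφ₀ : φ (ι y₀ * σ) ≠ 1 := by rw [map_mul, h.phi_iota, one_mul]; exact h.ne
  let B' := blockOf M (χh : Γ → ℂ)
  have hB' : IsPBlock M B' := isPBlock_blockOf χh
  have hχ' : χh ∈ B' := mem_blockOf_self χh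
  -- the coefficients on the coset
  let f : H → ℂ := fun c => blockCoeff B' (ι c * σ)
  have hf : IsClassFunction H f := fun a b =>
    (blockCoeff_isConj B' (h.isConj_iff'.2 (isConj_iff.2 ⟨b, rfl⟩))).symm
  have hfR : ∀ c, MemLocalRing M (f c) := fun c => Osima.memLocalRing_blockCoeff hM hB' _
  have hT := coset_idem hM h.prime hlm φ h.pow hB' hχ' hφ₀ hω₀ (h.pow σ)
  have hS := h.sum_coset (fun x => blockCoeff B' x * ((χh : Γ → ℂ) x / (χh : Γ → ℂ) 1)) fun a b => by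
    show blockCoeff _ _ * ((χh : Γ → ℂ) _ / _) = blockCoeff _ _ * ((χh : Γ → ℂ) _ / _)
    rw [Basic.irr_conj χh.2, MinMax.isClassFunction_blockCoeff B' a b]
  simp only [ite_mul, zero_mul] at hT
  rw [hT] at hS
  have hω : ¬ MemLocalIdeal M (∑ c : H, f c * ((χ : H → ℂ) c / (χ : H → ℂ) 1)) := by
    intro e
    apply unit_inv_nat hM hlm
    have e1 : (m : ℂ)⁻¹ = ε * ((Nat.card φ.ker * (χ : H → ℂ) 1) / (Nat.card H * (χh : Γ → ℂ) 1)) *
        ∑ c : H, f c * ((χ : H → ℂ) c / (χ : H → ℂ) 1) := by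
      rw [hS, Finset.mul_sum, Finset.mul_sum]
      refine Finset.sum_congr rfl fun c _ => ?_
      rw [hv]
      simp only [f]
      field_simp
    rw [e1]
    exact memLocalIdeal_mul_left (memLocalRing_mul hεR hκ.1) e
  obtain ⟨c, hc, hfc⟩ := MinMax.exists_centralizer_of_blockCoeff hM hf hfR
    (fun g => Osima.memLocalRing_blockCoeff hM hB g) (fun ψ hψ e => by
      apply hω
      have e1 := ClassSum.memLocalIdeal_of_sameBlock (irr_isClassFunction χ.2) (irr_isClassFunction ψ.2)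
        (isPBlock_sameBlock hB hχ hψ) hf hfR
      rw [memLocalIdeal_iff_of_sub e1]
      rw [MinMax.omega_def, lin_def, Finset.sum_div] at e
      simpa only [mul_div_assoc] using e)
    (isPGroup_of_isSylowCentralizer hsyl) (le_centralizer_of_isSylowCentralizer hsyl) hy₀.2.1
  have hD' : IsDefectGroup l M B' (D.map ι) := by
    refine defect_of hM hB' hχ' (h.syl hM.1 hlm hsyl) hω₀ ?_ hfc
    rintro _ ⟨d, hd, rfl⟩
    rw [Subgroup.mem_centralizer_singleton_iff, ← mul_assoc, ← map_mul, hc d hd, map_mul, mul_assoc, h.comm, mul_assoc]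
  refine lemZ hM h.prime hlm φ h.pow hB' hχ' hD' hφ₀ hω₀ S (fun x hx s hs e => ?_) hSN hSD hSy
  obtain ⟨g, rfl⟩ := isConj_iff.1 hx
  obtain ⟨a, ha, -⟩ := h.cent_le (c := y₀) (x := g⁻¹ * s * g)
    (by rw [map_mul, map_mul, map_inv, show φ s = 1 from hSK hs, mul_one, inv_mul_cancel])
    (by
      calc g⁻¹ * s * g * (ι y₀ * σ) = g⁻¹ * (s * (g * (ι y₀ * σ) * g⁻¹)) * g := by group
        _ = _ := by rw [← e]; group)
  have h1 : orderOf s ∣ Nat.card H := by
    have : s = g * ι a * g⁻¹ := by rw [ha]; group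
    rw [this, ← MulAut.conj_apply, MulEquiv.orderOf_eq, orderOf_injective ι h.inj]
    exact orderOf_dvd_natCard a
  rw [← orderOf_eq_one_iff]
  exact Nat.eq_one_of_dvd_coprimes hSc (Subgroup.orderOf_dvd_natCard S hs) h1

end Gl

end Cfsg.Agent.KM.Ht
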