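import Cfsg.Agent.LV.One.Res

/-!
# KM, the height inequality: statements (helper98)

`Z0 X A` is the connected centre of the connected centraliser of `A ⊆ T`.  For a block of `G ^ F` with the defect group
`D` and `A ≤ D` as in `Ctl`, every member `χ` satisfies
`ν χ(1) + ν |Z0 ^ F| ≤ ν |G ^ F| + ν (content of the degree polynomial of χ)`.
-/

set_option autoImplicit false
set_option linter.unusedSectionVars false

namespace Cfsg.Agent.KM.Ht

open Cfsg Cfsg.Agent.DL Cfsg.Agent.KZ.Lie Cfsg.Agent.LV.One Polynomial Matrix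

variable {p : ℕ} [Fact p.Prime] {k : Type} [Field k] [CharP k p] {Y : Type} [Group Y] {N : Type} [Fintype N]
  [DecidableEq N] {ρ : Y →* GL N k} {F : MulAut Y} {G : Subgroup Y} [IsAlgClosed k]

/-- the connected centre of the connected centraliser of `A` -/
def Z0 (X : Datum p ρ F G) (A : Set Y) : Subgroup Y :=
  Subgroup.closure {z | ∃ (v : X.R → ℤ) (a : kˣ), (∀ b ∈ X.Sz A, X.wt b ⬝ᵥ v = 0) ∧ z = X.τ (coch v a)}

theorem mem_Z0 {X : Datum p ρ F G} {A : Set Y} {v : X.R → ℤ} (h : ∀ b ∈ X.Sz A, X.wt b ⬝ᵥ v = 0) (a : kˣ) :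
    X.τ (coch v a) ∈ Z0 X A := Subgroup.subset_closure ⟨v, a, h, rfl⟩

theorem Z0_le_T (X : Datum p ρ F G) (A : Set Y) : Z0 X A ≤ X.T :=
  (Subgroup.closure_le _).2 fun _ ⟨_, _, _, e⟩ => e ▸ X.τ_mem _

/-- `D` lies in the connected centre of its connected centraliser -/
def Toral (X : Datum p ρ F G) (D : Subgroup Y) : Prop :=
  ∃ (y : Y) (hy : y ∈ G) (hN : y⁻¹ * F y ∈ X.NN), D ≤ Z0 (X.conj hy hN) D

/-- `A ≤ D` controls a torus -/
structure Ctl (X : Datum p ρ F G) (D A : Subgroup Y) : Prop where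
  le : A ≤ D
  tor : A ≤ X.T
  nrm : ∀ g ∈ G, g ∈ Subgroup.normalizer (D : Set Y) → g ∈ Subgroup.normalizer (A : Set Y)
  cen : D ≤ X.cen A

theorem GF_le_pow (l : ℕ) : GF F G ≤ GF (F ^ l) G := fun _ h => ⟨h.1, fix_le_fix_pow l h.2⟩

variable {X : Datum p ρ F G} (f : Fr X) [Fintype ↥(GF F G)] (χ : GF F G → ℂ)

/-- the multiplicities of `χ` occur for Glauberman correspondents of `χ` in infinitely many groups `G ^ (F ^ l)` -/
def LfG : Prop := ∀ B M : ℕ, M ≠ 0 → ∃ (l : ℕ) (hl : 0 < l) (_ : Fintype ↥(GF (F ^ l) G)) (f' : Fr (X.pow hl))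
  (χ' : GF (F ^ l) G → ℂ) (ε : ℂ), B < l ∧ l ≡ 1 [MOD M] ∧ IsIrrCharacter (GF (F ^ l) G) χ' ∧
    (ε = 1 ∨ ε = -1) ∧ (∀ w c, classInner χ' (RW f' w c) = ε * classInner χ (RW f w c)) ∧ l.Prime ∧
    (∀ g g' : GF (F ^ l) G, (g' : Y) = F g → χ' g' = χ' g) ∧
    ∃ n : ℕ, ¬ l ∣ n ∧ classInner (fun g : GF F G => χ' (Subgroup.inclusion (GF_le_pow l) g)) χ = n

variable {f χ} in
theorem LfG.lfE (h : LfG f χ) : LfE f χ := fun B M hM => by
  obtain ⟨l, hl, i, f', χ', ε, h1, h2, h3, h4, h5, -⟩ := h B M hM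
  exact ⟨l, hl, i, f', χ', ε, h1, h2, h3, h4, h5⟩

/-- `l ^ (n + 1)` does not divide the content of `g` -/
def Cont (l n : ℕ) (g : ℚ[X]) : Prop :=
  ∀ (a b : ℤ) (g₀ : ℤ[X]), C (b : ℚ) * g = C (a : ℚ) * g₀.map (Int.castRingHom ℚ) → ¬ (l : ℤ) ∣ b → ¬ (l : ℤ) ^ (n + 1) ∣ a

/-- `l ^ (n + 1)` does not divide the content of the degree polynomial of `χ` -/
def DegLe (l n : ℕ) : Prop := ∀ g, LfD f χ g → Cont l n g

/-- `l` does not divide the content of the degree polynomial of `χ` -/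
def DEG (l : ℕ) : Prop :=
  ∀ g, LfD f χ g → ∀ (a b : ℤ) (g₀ : ℤ[X]), C (b : ℚ) * g = C (a : ℚ) * g₀.map (Int.castRingHom ℚ) → ¬ (l : ℤ) ∣ b →
    ¬ (l : ℤ) ∣ a

variable {f χ} in
theorem DEG.degLe {l : ℕ} (h : DEG f χ l) : DegLe f χ l 0 := fun g hg a b g₀ e hb => by
  rw [zero_add, pow_one]
  exact h g hg a b g₀ e hb

/-! ### boxes -/

/-- every irreducible character has Glauberman lifts -/
def BoxLf : Prop :=
  ∀ {p : ℕ} [Fact p.Prime] {k : Type} [Field k] [CharP k p] {Y : Type} [Group Y] {N : Type} [Fintype N]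
    [DecidableEq N] {ρ : Y →* GL N k} {F : MulAut Y} {G : Subgroup Y} [IsAlgClosed k] {X : Datum p ρ F G} (f : Fr X)
    [Fintype ↥(GF F G)], X.QS → ∀ χ : GF F G → ℂ, IsIrrCharacter (GF F G) χ → LfG f χ

/-- the `r`-subgroups are abelian with small automizers -/
def Small (r : ℕ) (H : Type) [Group H] : Prop :=
  ∀ R : Subgroup H, IsPGroup r R →
    IsMulCommutative R ∧ (Subgroup.centralizer (R : Set H)).relIndex (Subgroup.normalizer (R : Set H)) < r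

/-- a character which does not vanish on a coset `y S` -/
def BoxR : Prop :=
  ∀ (H : Type) [Group H] [Finite H] (r : ℕ), r.Prime → Small r H → ∀ (χ : IrrCharacter H) (S : Subgroup H) (y : H),
    IsPGroup r S → (∀ s ∈ S, y * s = s * y) → (∀ s ∈ S, (χ : H → ℂ) (y * s) ≠ 0) →
      (charDegree (χ : H → ℂ)).factorization r + (Nat.card S).factorization r ≤ (Nat.card H).factorization r

/-- large primes -/
def BoxS : Prop :=
  ∀ {p : ℕ} [Fact p.Prime] {k : Type} [Field k] [CharP k p] {Y : Type} [Group Y] {N : Type} [Fintype N]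
    [DecidableEq N] {ρ : Y →* GL N k} {F : MulAut Y} {G : Subgroup Y} [IsAlgClosed k] (X : Datum p ρ F G) (r : ℕ),
    r.Prime → r ≠ p → Nat.card X.W < r → Small r ↥(GF F G)

/-- the normaliser and the centraliser of `Z0` -/
def BoxZ : Prop :=
  ∀ {p : ℕ} [Fact p.Prime] {k : Type} [Field k] [CharP k p] {Y : Type} [Group Y] {N : Type} [Fintype N]
    [DecidableEq N] {ρ : Y →* GL N k} {F : MulAut Y} {G : Subgroup Y} [IsAlgClosed k] (X : Datum p ρ F G)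
    (A : Subgroup Y), A ≤ X.T →
    (∀ g ∈ G, g ∈ Subgroup.normalizer (A : Set Y) → ∀ z ∈ Z0 X A, g * z * g⁻¹ ∈ Z0 X A) ∧
    (∀ g ∈ X.cen A, ∀ z ∈ Z0 X A, g * z = z * g) ∧
    (∀ l : ℕ, l.Prime → l ≠ p → Finite A → IsPGroup l A → ∀ g ∈ G, g ∈ Subgroup.centralizer (A : Set Y) →
      ¬ l ∣ orderOf g → g ∈ X.cen A)

/-- the order polynomial of `Z0` -/
def BoxP : Prop :=
  ∀ {p : ℕ} [Fact p.Prime] {k : Type} [Field k] [CharP k p] {Y : Type} [Group Y] {N : Type} [Fintype N]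
    [DecidableEq N] {ρ : Y →* GL N k} {F : MulAut Y} {G : Subgroup Y} [IsAlgClosed k] (X : Datum p ρ F G)
    (A : Subgroup Y), A ≤ X.T → (∀ a ∈ A, F a = a) →
    (∀ z ∈ Z0 X A, F z ∈ Z0 X A) ∧ ∃ P : ℤ[X], IsUnit (P.coeff 0) ∧ (P.eval 1).natAbs = Nat.card ↥(GF F (Z0 X A)) ∧
      ∀ d e j : ℕ, X.Mx ^ d = ((p : ℤ) ^ e) • (1 : Matrix X.R X.R ℤ) →
        (P.eval ((p : ℤ) ^ (e * j))).natAbs = Nat.card ↥(GF (F ^ (1 + d * j)) (Z0 X A))

/-- **The height inequality.** -/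
def HT : Prop :=
  ∀ {p : ℕ} [Fact p.Prime] {k : Type} [Field k] [CharP k p] {Y : Type} [Group Y] {N : Type} [Fintype N]
    [DecidableEq N] {ρ : Y →* GL N k} {F : MulAut Y} {G : Subgroup Y} [IsAlgClosed k] {X : Datum p ρ F G} (f : Fr X)
    [Fintype ↥(GF F G)], X.QS → ∀ (l : ℕ) (M : Ideal AlgInt), IsPModular l M → l ≠ p →
    ∀ (B : Set (IrrCharacter ↥(GF F G))) (D : Subgroup ↥(GF F G)), IsPBlock M B → IsDefectGroup l M B D →
    ∀ (y : Y) (hy : y ∈ G) (hN : y⁻¹ * F y ∈ X.NN) (A : Subgroup Y), Ctl (X.conj hy hN) (D.map (GF F G).subtype) A →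
    ∀ χ ∈ B, ∀ n : ℕ, DegLe f χ l n →
      (charDegree (χ : GF F G → ℂ)).factorization l + (Nat.card ↥(GF F (Z0 (X.conj hy hN) A))).factorization l ≤
        (Nat.card ↥(GF F G)).factorization l + n

/-- **Height zero** for toral defect groups. -/
def HT0 : Prop :=
  ∀ {p : ℕ} [Fact p.Prime] {k : Type} [Field k] [CharP k p] {Y : Type} [Group Y] {N : Type} [Fintype N]
    [DecidableEq N] {ρ : Y →* GL N k} {F : MulAut Y} {G : Subgroup Y} [IsAlgClosed k] {X : Datum p ρ F G} (f : Fr X)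
    [Fintype ↥(GF F G)], X.QS → ∀ (l : ℕ) (M : Ideal AlgInt), IsPModular l M → l ≠ p →
    ∀ (B : Set (IrrCharacter ↥(GF F G))) (D : Subgroup ↥(GF F G)), IsPBlock M B → IsDefectGroup l M B D →
    Toral X (D.map (GF F G).subtype) → ∀ χ ∈ B, DEG f χ l → blockHeight l B (χ : GF F G → ℂ) = 0

end Cfsg.Agent.KM.Ht
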